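import Cfsg.Agent.EvenPair.Exceptional.Prime

/-!
Coordinates for the pivot module of a frame over a prime field: the doubling step.
-/

set_option autoImplicit false
set_option linter.style.haveILetI false

open scoped commutatorElement

namespace CfsgLib.OddPair.Frame

variable {A V : Type} [Group A] [Finite A] [AddCommGroup V] [Finite V] [Nontrivial V] [DistribMulAction A V]
variable (φ : Frame A V) {q : ℕ} [Fact q.Prime]

/-- A module of coordinates on which the pivot quotient acts through a finite list of maps. -/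
structure Coords (q : ℕ) {X C : Type} [AddCommGroup X] (op : C → X → X) (c0 : C) where
  Zc : Subgroup A
  Zp : Subgroup A
  R : Subgroup A
  v0 : V
  ι : X →+ V
  hCZ : φ.C ≤ Zc
  hZcp : Zc ≤ Zp
  hZp : Zp = φ.F ⊓ Subgroup.centralizer (Zc : Set A)
  hv0 : v0 ≠ 0
  heig : ∀ z ∈ Zc, ∃ r : φ.K, z • v0 = r • v0
  hCR : φ.C ≤ R
  hRZp : R ≤ Zp
  hdisj : ∀ x ∈ R, x ∈ Zc → x ∈ φ.C
  hfac : ∀ π ∈ Zp, ∃ z ∈ Zc, ∃ r ∈ R, π = z * r
  hinj : Function.Injective ι
  hW : ∀ x, φ.InBlock Zc v0 (ι x)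
  hact : ∀ r ∈ R, ∃ c μ, ¬ q ∣ μ ∧ (∀ x, r • ι x = μ • ι (op c x)) ∧ (c = c0 → r ∈ φ.C)
  hreal : ∀ c, ∃ r ∈ R, ∃ μ : ℕ, ¬ q ∣ μ ∧ ∀ x, r • ι x = μ • ι (op c x)

variable [FaithfulSMul A V]

theorem exists_nat_smul (hK : Nat.card φ.K = q) {r : φ.K} (hr : r ≠ 0) :
    ∃ n : ℕ, ¬ q ∣ n ∧ ∀ x : V, r • x = n • x := by
  obtain ⟨n, rfl⟩ := φ.exists_natCast hK r
  exact ⟨n, fun h => hr ((φ.natCast_eq_zero_iff_dvd hK n).mpr h), fun x => Nat.cast_smul_eq_nsmul φ.K n x⟩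

theorem commute_smul {z t : A} (hz : z ∈ φ.F) (ht : t ∈ φ.F) (h : φ.scal ⁅z, t⁆ (φ.comm_mem z hz t ht) = -1) (x : V) :
    z • t • x = -(t • z • x) := by
  have h1 : ⁅z, t⁆ • (t • z • x) = z • t • x := by
    rw [← mul_smul, ← mul_smul, ← mul_smul]; congr 1; rw [commutatorElement_def]; group
  rw [← h1, ← φ.scal_smul _ (φ.comm_mem z hz t ht), h, neg_one_smul]

/-- Adjoining two elements with central squares. -/
theorem exists_join {R : Subgroup A} (hCR : φ.C ≤ R) {z t : A} (hz : z ∈ φ.F) (ht : t ∈ φ.F)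
    (hz2 : z ^ 2 ∈ φ.C) (ht2 : t ^ 2 ∈ φ.C) (hRz : ∀ r ∈ R, r * z = z * r) (hRt : ∀ r ∈ R, r * t = t * r) :
    ∃ R' : Subgroup A, R ≤ R' ∧ z ∈ R' ∧ t ∈ R' ∧
      ∀ x ∈ R', ∃ r ∈ R, ∃ a b : Bool, x = r * (if a then z else 1) * (if b then t else 1) := by
  classical
  let S : Set A := {x | ∃ r ∈ R, ∃ a b : ℕ, x = r * z ^ a * t ^ b}
  have hmul : ∀ x ∈ S, ∀ y ∈ S, x * y ∈ S := by
    rintro _ ⟨r, hr, a, b, rfl⟩ _ ⟨r', hr', a', b', rfl⟩
    set c := ⁅t ^ b, z ^ a'⁆ with hc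
    have hcC : c ∈ φ.C := φ.comm_mem _ (φ.F.pow_mem ht b) _ (φ.F.pow_mem hz a')
    have h1 : t ^ b * r' = r' * t ^ b := (Commute.pow_left (show Commute t r' from (hRt r' hr').symm) b).eq
    have h2 : z ^ a * r' = r' * z ^ a := (Commute.pow_left (show Commute z r' from (hRz r' hr').symm) a).eq
    have h3 : t ^ b * z ^ a' = c * (z ^ a' * t ^ b) := by rw [hc, commutatorElement_def]; group
    have h4 : z ^ a * c = c * z ^ a := (φ.comm_C_L hcC (φ.F_le (φ.F.pow_mem hz a))).symm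
    refine ⟨r * r' * c, mul_mem (mul_mem hr hr') (hCR hcC), a + a', b + b', ?_⟩
    calc r * z ^ a * t ^ b * (r' * z ^ a' * t ^ b') = r * z ^ a * (t ^ b * r') * z ^ a' * t ^ b' := by group
      _ = r * (z ^ a * r') * (t ^ b * z ^ a') * t ^ b' := by rw [h1]; group
      _ = r * r' * (z ^ a * c) * (z ^ a' * t ^ b) * t ^ b' := by rw [h2, h3]; group
      _ = r * r' * c * z ^ (a + a') * t ^ (b + b') := by rw [h4, pow_add, pow_add]; group
  have h1S : (1 : A) ∈ S := ⟨1, one_mem _, 0, 0, by simp⟩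
  let M : Submonoid A := { carrier := S, one_mem' := h1S, mul_mem' := fun ha hb => hmul _ ha _ hb }
  let R' : Subgroup A :=
    { M with
      inv_mem' := fun {x} hx => by
        have h : x⁻¹ = x ^ (orderOf x - 1) := by
          rw [inv_eq_iff_mul_eq_one, ← pow_succ', Nat.sub_add_cancel (orderOf_pos x), pow_orderOf_eq_one]
        rw [h]
        exact M.pow_mem hx _ }
  refine ⟨R', fun r hr => ⟨r, hr, 0, 0, by simp⟩, ⟨1, one_mem _, 1, 0, by simp⟩, ⟨1, one_mem _, 0, 1, by simp⟩, ?_⟩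
  rintro _ ⟨r, hr, a, b, rfl⟩
  have hza : z ^ a = (z ^ 2) ^ (a / 2) * (if a % 2 = 1 then z else 1) := by
    rw [← pow_mul]
    conv_lhs => rw [← Nat.div_add_mod a 2]
    rw [pow_add]
    rcases Nat.mod_two_eq_zero_or_one a with h | h <;> simp [h]
  have htb : t ^ b = (t ^ 2) ^ (b / 2) * (if b % 2 = 1 then t else 1) := by
    rw [← pow_mul]
    conv_lhs => rw [← Nat.div_add_mod b 2]
    rw [pow_add]
    rcases Nat.mod_two_eq_zero_or_one b with h | h <;> simp [h]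
  refine ⟨r * (z ^ 2) ^ (a / 2) * (t ^ 2) ^ (b / 2), mul_mem (mul_mem hr (hCR (pow_mem hz2 _))) (hCR (pow_mem ht2 _)),
    decide (a % 2 = 1), decide (b % 2 = 1), ?_⟩
  simp only [decide_eq_true_eq]
  have hcz : (if a % 2 = 1 then z else 1) ∈ φ.F := by split_ifs; exacts [hz, one_mem _]
  calc r * z ^ a * t ^ b
      = r * (z ^ 2) ^ (a / 2) * ((if a % 2 = 1 then z else 1) * (t ^ 2) ^ (b / 2)) * (if b % 2 = 1 then t else 1) := by
        rw [hza, htb]; group
    _ = r * (z ^ 2) ^ (a / 2) * ((t ^ 2) ^ (b / 2) * (if a % 2 = 1 then z else 1)) * (if b % 2 = 1 then t else 1) := by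
        rw [φ.comm_C_L (pow_mem ht2 _) (φ.F_le hcz)]
    _ = _ := by group

variable [Group.IsSolvable A]

/-- Coordinates from a pivot pair and maps describing it. -/
theorem coords_pair (hK : Nat.card φ.K = q) (hsq : ∀ f ∈ φ.F, f ^ 2 ∈ φ.C) (hneg : (-1 : φ.K) ≠ 1)
    (Zc Zp : Subgroup A) (v0 : V) (j s : A) (l m ε : φ.K)
    (hCZ : φ.C ≤ Zc) (hZcp : Zc ≤ Zp) (hZp : Zp = φ.F ⊓ Subgroup.centralizer (Zc : Set A))
    (hv0 : v0 ≠ 0) (heig : ∀ z ∈ Zc, ∃ r : φ.K, z • v0 = r • v0)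
    (hj : j ∈ φ.F) (hs : s ∈ φ.F) (hjZ : j ∈ Zp) (hsZ : s ∈ Zp) (hl : l ≠ 0) (hm : m ≠ 0)
    (hsj : φ.scal ⁅s, j⁆ (φ.comm_mem s hs j hj) = -1) (_hε : ε ≠ 0)
    (hdec : ∀ π ∈ Zp, ∃ z ∈ Zc, π = z ∨ π = z * j ∨ π = z * s ∨ π = z * (j * s))
    {X : Type} [AddCommGroup X] (op : Bool × Bool → X → X) (MJ MS : X → X)
    (hop : ∀ a b x, op (a, b) x = (if a then MJ else id) ((if b then MS else id) x))
    (ι : X →+ V) (hinj : Function.Injective ι) (hW : ∀ x, φ.InBlock Zc v0 (ι x))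
    (hJ : ∀ x, l • (j • ι x) = ι (MJ x)) (hS : ∀ x, m • (s • ι x) = ι (MS x)) :
    ∃ κ : φ.Coords q op (false, false), κ.Zc = Zc := by
  classical
  obtain ⟨R, hCR, hjR, hsR, hR⟩ := φ.exists_join le_rfl hj hs (hsq j hj) (hsq s hs)
    (fun r hr => φ.comm_C_L hr (φ.F_le hj)) (fun r hr => φ.comm_C_L hr (φ.F_le hs))
  obtain ⟨nl, hnl, hnl'⟩ := φ.exists_nat_smul hK (inv_ne_zero hl)
  obtain ⟨nm, hnm, hnm'⟩ := φ.exists_nat_smul hK (inv_ne_zero hm)
  have hjι : ∀ x, j • ι x = nl • ι (MJ x) := fun x => by rw [← hnl', ← hJ, smul_smul, inv_mul_cancel₀ hl, one_smul]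
  have hsι : ∀ x, s • ι x = nm • ι (MS x) := fun x => by rw [← hnm', ← hS, smul_smul, inv_mul_cancel₀ hm, one_smul]
  have hnsm : ∀ (g : A) (n : ℕ) (x : V), g • (n • x) = n • (g • x) := fun g n x =>
    map_nsmul (DistribMulAction.toAddMonoidHom V g) n x
  have hact0 : ∀ a b : Bool, ∃ μ : ℕ, ¬ q ∣ μ ∧
      ∀ x, ((if a then j else 1) * (if b then s else 1)) • ι x = μ • ι (op (a, b) x) := by
    intro a b
    refine ⟨(if a then nl else 1) * (if b then nm else 1), ?_, fun x => ?_⟩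
    · have hp := (Fact.out : q.Prime)
      intro h
      rcases hp.dvd_mul.mp h with h | h <;> split_ifs at h <;>
        first | exact hnl h | exact hnm h | exact hp.one_lt.ne' (Nat.dvd_one.mp h)
    · rw [mul_smul, hop]
      cases a <;> cases b
      · simp
      · simpa using hsι x
      · simpa using hjι x
      · simp only [if_pos]
        rw [hsι, hnsm, hjι, ← mul_nsmul]
  -- commutators of the products
  have hjs : φ.scal ⁅j, s⁆ (φ.comm_mem j hj s hs) = -1 := by rw [φ.comm_swap hj hs, hsj, inv_neg, inv_one]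
  have htriv : ∀ c ∈ φ.C, ∀ a b : Bool, c * (if a then j else 1) * (if b then s else 1) ∈ Zc → a = false ∧ b = false := by
    intro c hc a b h
    have hx : (if a then j else 1) * (if b then s else 1) ∈ Zc := by
      have := mul_mem (Zc.inv_mem (hCZ hc)) h
      rwa [← mul_assoc, inv_mul_cancel_left] at this
    have key : ∀ p ∈ Zp, ((if a then j else 1) * (if b then s else 1)) * p = p * ((if a then j else 1) * (if b then s else 1)) :=
      fun p hp => Subgroup.mem_centralizer_iff.mp (hZp.le hp).2 _ hx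
    have e1 := key j hjZ
    have e2 := key s hsZ
    have hjj := φ.scal_of_commute hj hj rfl
    have hss := φ.scal_of_commute hs hs rfl
    cases a <;> cases b <;> simp only [if_pos, if_false, one_mul, mul_one, Bool.false_eq_true] at e1 e2
    · exact ⟨rfl, rfl⟩
    · exact absurd (hsj.symm.trans (φ.scal_of_commute hs hj e1)) hneg
    · exact absurd (hjs.symm.trans (φ.scal_of_commute hj hs e2)) hneg
    · have h1 := φ.scal_of_commute (mul_mem hj hs) hj e1
      rw [φ.comm_scal_mul_left hj hs hj, hjj, hsj, one_mul] at h1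
      exact absurd h1 hneg
  have hRZp : R ≤ Zp := fun x hx => by
    obtain ⟨r, hr, a, b, rfl⟩ := hR x hx
    refine mul_mem (mul_mem (hZcp (hCZ hr)) ?_) ?_ <;> split_ifs
    exacts [hjZ, one_mem _, hsZ, one_mem _]
  refine ⟨⟨Zc, Zp, R, v0, ι, hCZ, hZcp, hZp, hv0, heig, hCR, hRZp, ?_, ?_, hinj, hW, ?_, ?_⟩, rfl⟩
  · intro x hx hxZ
    obtain ⟨r, hr, a, b, rfl⟩ := hR x hx
    obtain ⟨rfl, rfl⟩ := htriv r hr a b hxZ
    simpa using hr
  · intro π hπ
    obtain ⟨z, hz, h⟩ := hdec π hπ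
    refine ⟨z, hz, z⁻¹ * π, ?_, (mul_inv_cancel_left z π).symm⟩
    rcases h with e | e | e | e <;> rw [e]
    · rw [inv_mul_cancel]; exact one_mem R
    all_goals rw [inv_mul_cancel_left]
    · exact hjR
    · exact hsR
    · exact mul_mem hjR hsR
  · intro r' hr'
    obtain ⟨r, hr, a, b, rfl⟩ := hR r' hr'
    obtain ⟨μ, hμ, hμ'⟩ := hact0 a b
    obtain ⟨n, hn, hn'⟩ := φ.exists_nat_smul hK (φ.scal_ne_zero r hr)
    refine ⟨(a, b), n * μ, fun h => (((Fact.out : q.Prime).dvd_mul.mp h).elim hn hμ), fun x => ?_, fun h => ?_⟩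
    · rw [mul_assoc, mul_smul, hμ' x, hnsm, ← φ.scal_smul r hr, hn', ← mul_nsmul, mul_comm]
    · simp only [Prod.mk.injEq] at h
      obtain ⟨rfl, rfl⟩ := h
      simpa using hr
  · rintro ⟨a, b⟩
    obtain ⟨μ, hμ, hμ'⟩ := hact0 a b
    exact ⟨_, mul_mem (by split_ifs; exacts [hjR, one_mem _]) (by split_ifs; exacts [hsR, one_mem _]), μ, hμ, hμ'⟩

/-- The doubled maps. -/
def double {X C : Type} [AddCommGroup X] (op : C → X → X) : C × Bool × Bool → X × X → X × X :=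
  fun c p =>
    let p1 := if c.2.2 then (p.2, p.1) else p
    let p2 := if c.2.1 then (p1.1, -p1.2) else p1
    (op c.1 p2.1, op c.1 p2.2)

/-- The doubling step. -/
theorem coords_double (hK : Nat.card φ.K = q) (hsq : ∀ f ∈ φ.F, f ^ 2 ∈ φ.C) (h2 : (2 : φ.K) ≠ 0)
    {X C : Type} [AddCommGroup X] {op : C → X → X} {c0 : C} (κ : φ.Coords q op c0) (hnot : ¬ κ.Zc ≤ φ.C) :
    ∃ κ' : φ.Coords q (double op) (c0, false, false),
      κ'.Zc ≤ κ.Zc ∧ ∃ z, ∀ x ∈ κ.Zc, x ∈ κ'.Zc ∨ x * z ∈ κ'.Zc := by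
  classical
  obtain ⟨Zc, Zp, R, v0, ι, hCZ, hZcp, hZp, hv0, heig, hCR, hRZp, hdisj, hfac, hinj, hW, hact, hreal⟩ := κ
  dsimp only at hnot ⊢
  have hneg : (-1 : φ.K) ≠ 1 := fun e => h2 (by linear_combination -e)
  have hZpF : Zp ≤ φ.F := hZp.le.trans inf_le_left
  have hZcF : Zc ≤ φ.F := hZcp.trans hZpF
  have hRF : R ≤ φ.F := hRZp.trans hZpF
  obtain ⟨z, hz, hzC⟩ := SetLike.not_le_iff_exists.mp hnot
  have hzF := hZcF hz
  obtain ⟨ρ, hρ⟩ := heig z hz
  have hρ0 : ρ ≠ 0 := fun e => hv0 ((smul_eq_zero_iff_eq z).mp (by rw [hρ, e, zero_smul]))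
  have hz2 : φ.scal (z ^ 2) (hsq z hzF) = ρ ^ 2 := φ.smul_left_cancel' hv0 (by
    rw [φ.scal_smul, sq z, mul_smul, hρ, φ.L_smul (φ.F_le hzF), hρ, smul_smul, sq])
  have hRz : ∀ r ∈ R, r * z = z * r := fun r hr =>
    (Subgroup.mem_centralizer_iff.mp (hZp.le (hRZp hr)).2 z hz).symm
  obtain ⟨t0, ht0, ht0z⟩ : ∃ t ∈ φ.F ⊓ Subgroup.centralizer (R : Set A), t * z ≠ z * t := by
    by_contra h
    push Not at h
    refine hzC (hdisj z ?_ hz)
    exact (φ.centralizer_centralizer_le R hCR hRF).le ⟨hzF, Subgroup.mem_centralizer_iff.mpr fun t ht => h t ht⟩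
  have ht0j : φ.scal ⁅t0, z⁆ (φ.comm_mem t0 ht0.1 z hzF) = -1 :=
    (φ.comm_pm hzF ht0.1 (hsq z hzF)).resolve_left fun e => ht0z (φ.commute_of_scal ht0.1 hzF e)
  obtain ⟨m0, ε0, hm0, hε0, he0⟩ := φ.exists_root_scalar ht0.1 Nat.prime_two (hsq t0 ht0.1)
  obtain ⟨t, htF, htR, m, hm, hme, htz⟩ : ∃ (t : A) (ht : t ∈ φ.F), (∀ r ∈ R, r * t = t * r) ∧ ∃ m : φ.K, m ≠ 0 ∧
      φ.scal (t ^ 2) (hsq t ht) * m ^ 2 = 1 ∧ φ.scal ⁅t, z⁆ (φ.comm_mem t ht z hzF) = -1 := by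
    have hR0 : ∀ r ∈ R, r * t0 = t0 * r := fun r hr => Subgroup.mem_centralizer_iff.mp ht0.2 r hr
    rcases hε0 with rfl | ⟨-, rfl⟩
    · exact ⟨t0, ht0.1, hR0, m0, hm0, he0, ht0j⟩
    · refine ⟨t0 * z, mul_mem ht0.1 hzF, fun r hr => ?_, m0 * ρ⁻¹, mul_ne_zero hm0 (inv_ne_zero hρ0), ?_, ?_⟩
      · rw [← mul_assoc, hR0 r hr, mul_assoc, hRz r hr, mul_assoc]
      · rw [φ.scal_sq_mul ht0.1 hzF (hsq t0 ht0.1) (hsq z hzF), φ.comm_swap hzF ht0.1, ht0j, hz2, inv_neg, inv_one]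
        field_simp
        linear_combination -he0
      · rw [φ.comm_scal_mul_left ht0.1 hzF hzF, ht0j, φ.scal_of_commute hzF hzF rfl, mul_one]
  have hzt : φ.scal ⁅z, t⁆ (φ.comm_mem z hzF t htF) = -1 := by rw [φ.comm_swap hzF htF, htz, inv_neg, inv_one]
  let Zc' : Subgroup A := Zc ⊓ Subgroup.centralizer ({t} : Set A)
  let Zp' : Subgroup A := φ.F ⊓ Subgroup.centralizer (Zc' : Set A)
  have hCZ' : φ.C ≤ Zc' := le_inf hCZ fun c hc =>
    Subgroup.mem_centralizer_singleton_iff.mpr (φ.comm_C_L hc (φ.F_le htF))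
  have hsplit : ∀ x ∈ Zc, x ∈ Zc' ∨ x * z ∈ Zc' := by
    intro x hx
    rcases φ.comm_pm htF (hZcF hx) (hsq t htF) with h | h
    · exact Or.inl ⟨hx, Subgroup.mem_centralizer_singleton_iff.mpr (φ.commute_of_scal (hZcF hx) htF h)⟩
    · refine Or.inr ⟨mul_mem hx hz, Subgroup.mem_centralizer_singleton_iff.mpr
        (φ.commute_of_scal (mul_mem (hZcF hx) hzF) htF ?_)⟩
      rw [φ.comm_scal_mul_left (hZcF hx) hzF htF, h, hzt]; ring
  have hZpp : Zp ≤ Zp' := fun π hπ => ⟨hZpF hπ, Subgroup.mem_centralizer_iff.mpr fun x hx =>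
    Subgroup.mem_centralizer_iff.mp (hZp.le hπ).2 x hx.1⟩
  have htZ : t ∈ Zp' := ⟨htF, Subgroup.mem_centralizer_iff.mpr fun x hx =>
    Subgroup.mem_centralizer_singleton_iff.mp hx.2⟩
  obtain ⟨R', hRR', hzR', htR', hR'⟩ := φ.exists_join hCR hzF htF (hsq z hzF) (hsq t htF) hRz htR
  have hnsm : ∀ (g : A) (n : ℕ) (x : V), g • (n • x) = n • (g • x) := fun g n x =>
    map_nsmul (DistribMulAction.toAddMonoidHom V g) n x
  obtain ⟨nz, hnz, hnz'⟩ := φ.exists_nat_smul hK hρ0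
  have hzι : ∀ x, z • ι x = nz • ι x := fun x => by rw [hW x z hz ρ hρ, hnz']
  have ht2 : ∀ y : V, t • t • y = φ.scal (t ^ 2) (hsq t htF) • y := fun y => by
    rw [φ.scal_smul, sq, mul_smul]
  let ι' : X × X →+ V :=
    AddMonoidHom.mk' (fun p => ι p.1 + m • (t • ι p.2)) fun p p' => by
      simp only [Prod.fst_add, Prod.snd_add, map_add, smul_add]; abel
  have hι' : ∀ p : X × X, ι' p = ι p.1 + m • (t • ι p.2) := fun p => rfl
  have hzι' : ∀ p : X × X, z • ι' p = nz • ι' (p.1, -p.2) := by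
    intro p
    rw [hι', hι', smul_add, φ.L_smul (φ.F_le hzF), φ.commute_smul hzF htF hzt]
    simp only [hzι, hnsm, map_neg, smul_neg, nsmul_add]
    rw [smul_comm nz m (t • ι p.2)]
  have hmt : m * φ.scal (t ^ 2) (hsq t htF) ≠ 0 := mul_ne_zero hm (φ.scal_ne_zero _ _)
  obtain ⟨nt, hnt, hnt'⟩ := φ.exists_nat_smul hK hmt
  have htι' : ∀ p : X × X, t • ι' p = nt • ι' (p.2, p.1) := by
    intro p
    rw [hι', hι', smul_add, φ.L_smul (φ.F_le htF), ht2, smul_smul, ← hnt', smul_add, smul_smul,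
      show m * φ.scal (t ^ 2) (hsq t htF) * m = 1 by linear_combination hme, one_smul, add_comm]
  have hWmul : ∀ x ∈ Zc', ∀ r : φ.K, x • v0 = r • v0 → ∀ p : X × X, x • ι' p = r • ι' p := by
    intro x hx r hr p
    rw [hι', smul_add, hW _ x hx.1 r hr, φ.L_smul (φ.F_le (hZcF hx.1)), ← mul_smul,
      Subgroup.mem_centralizer_singleton_iff.mp hx.2, mul_smul, hW _ x hx.1 r hr, φ.L_smul (φ.F_le htF), smul_comm m r,
      ← smul_add]
  have hp := (Fact.out : q.Prime)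
  have hmulnd : ∀ {a b : ℕ}, ¬ q ∣ a → ¬ q ∣ b → ¬ q ∣ a * b := fun ha hb h => (hp.dvd_mul.mp h).elim ha hb
  have hone : ¬ q ∣ 1 := fun h => hp.one_lt.ne' (Nat.dvd_one.mp h)
  have hactall : ∀ r ∈ R, ∀ c μ, (∀ x, r • ι x = μ • ι (op c x)) → ∀ a b : Bool, ∀ p : X × X,
      (r * (if a then z else 1) * (if b then t else 1)) • ι' p =
        ((if b then nt else 1) * ((if a then nz else 1) * μ)) • ι' (double op (c, a, b) p) := by
    intro r hr c μ hμ a b p
    have hrι : ∀ p : X × X, r • ι' p = μ • ι' (op c p.1, op c p.2) := by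
      intro p
      rw [hι', hι', smul_add, φ.L_smul (φ.F_le (hRF hr)), ← mul_smul r t, htR r hr, mul_smul, hμ, hμ, hnsm,
        nsmul_add, smul_comm μ m]
    rw [mul_smul, mul_smul]
    cases a <;> cases b <;>
      simp only [double, if_pos, if_false, one_smul, Bool.false_eq_true, one_mul, htι', hzι', hnsm, hrι, ← mul_nsmul] <;>
      ring_nf
  refine ⟨⟨Zc', Zp', R', v0, ι', hCZ', ?_, rfl, hv0, fun x hx => heig x hx.1, hCR.trans hRR', ?_, ?_, ?_, ?_, ?_, ?_, ?_⟩,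
    inf_le_left, z, hsplit⟩
  · exact fun x hx => hZpp (hZcp hx.1)
  · intro x hx
    obtain ⟨r, hr, a, b, rfl⟩ := hR' x hx
    refine mul_mem (mul_mem (hZpp (hRZp hr)) ?_) ?_ <;> split_ifs
    exacts [hZpp (hZcp hz), one_mem _, htZ, one_mem _]
  · intro x hx hxZ
    obtain ⟨r, hr, a, b, rfl⟩ := hR' x hx
    have hrz : r * (if a then z else 1) ∈ φ.F := mul_mem (hRF hr) (by split_ifs; exacts [hzF, one_mem _])
    have hbf : b = false := by
      by_contra hb
      simp only [Bool.not_eq_false] at hb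
      subst hb
      have h1 : r * (if a then z else 1) * z = z * (r * (if a then z else 1)) := by
        cases a
        · simpa using hRz r hr
        · simp only [if_pos]; rw [← mul_assoc, ← hRz r hr]
      have h2' := φ.scal_of_commute (mul_mem hrz htF) hzF
        (Subgroup.mem_centralizer_iff.mp (hZp.le (hZcp hz)).2 _ hxZ.1)
      rw [φ.comm_scal_mul_left hrz htF hzF, φ.scal_of_commute hrz hzF h1, htz, one_mul] at h2'
      exact hneg h2'
    subst hbf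
    simp only [Bool.false_eq_true, if_false, mul_one] at hxZ ⊢
    have hrC : r ∈ φ.C := hdisj r hr (by
      have h1 : (if a then z else 1) ∈ Zc := by split_ifs; exacts [hz, one_mem _]
      have h1i := Zc.mul_mem hxZ.1 (Zc.inv_mem h1)
      rwa [mul_inv_cancel_right] at h1i)
    cases a
    · simpa using hrC
    · exfalso
      simp only [if_pos] at hxZ
      have h1 := mul_mem (inv_mem (hCZ' hrC)) hxZ
      rw [inv_mul_cancel_left] at h1
      have h2' := φ.scal_of_commute hzF htF (Subgroup.mem_centralizer_singleton_iff.mp h1.2)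
      rw [hzt] at h2'
      exact hneg h2'
  · intro π hπ
    obtain ⟨e, he, hπe⟩ : ∃ e : Bool, ∃ _ : True, (π * (if e then t else 1)⁻¹) * z = z * (π * (if e then t else 1)⁻¹) := by
      rcases φ.comm_pm hzF hπ.1 (hsq z hzF) with h | h
      · exact ⟨false, trivial, by simpa using φ.commute_of_scal hπ.1 hzF h⟩
      · refine ⟨true, trivial, φ.commute_of_scal (mul_mem hπ.1 (inv_mem htF)) hzF ?_⟩
        have h3 := φ.comm_scal_mul_left (mul_mem hπ.1 (inv_mem htF)) htF hzF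
        have h4 := (φ.scal_congr (show ⁅π * t⁻¹ * t, z⁆ = ⁅π, z⁆ by rw [inv_mul_cancel_right]) _
          (φ.comm_mem π hπ.1 z hzF)).symm.trans h3
        rw [h, htz, mul_neg_one, neg_inj] at h4
        exact h4.symm
    set π' := π * (if e then t else 1)⁻¹ with hπ'def
    have hπ'Zp' : π' ∈ Zp' := mul_mem hπ (inv_mem (by split_ifs; exacts [htZ, one_mem _]))
    have hπ'Zp : π' ∈ Zp := by
      rw [hZp]
      refine ⟨hπ'Zp'.1, Subgroup.mem_centralizer_iff.mpr fun x hx => ?_⟩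
      rcases hsplit x hx with h | h
      · exact Subgroup.mem_centralizer_iff.mp hπ'Zp'.2 x h
      · have h1 := Subgroup.mem_centralizer_iff.mp hπ'Zp'.2 _ h
        calc x * π' = x * z * π' * z⁻¹ := by rw [mul_assoc x z, ← hπe]; group
          _ = π' * x := by rw [h1]; group
    obtain ⟨x, hx, r, hr, hxr⟩ := hfac π' hπ'Zp
    have hπeq : π = x * r * (if e then t else 1) := by rw [← hxr, hπ'def, inv_mul_cancel_right]
    have hte : (if e then t else 1) ∈ R' := by split_ifs; exacts [htR', one_mem _]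
    rcases hsplit x hx with h | h
    · exact ⟨x, h, r * (if e then t else 1), mul_mem (hRR' hr) hte, by rw [hπeq, mul_assoc]⟩
    · refine ⟨x * z, h, z⁻¹ * r * (if e then t else 1), mul_mem (mul_mem (inv_mem hzR') (hRR' hr)) hte, ?_⟩
      rw [hπeq]; group
  · rw [injective_iff_map_eq_zero]
    intro p hp0
    have h1 := congrArg (z • ·) hp0
    simp only [hzι', smul_zero] at h1
    have h1' : ι' (p.1, -p.2) = 0 := by
      obtain ⟨n, hn, hn'⟩ := φ.exists_nat_smul hK hρ0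
      have : ρ • ι' (p.1, -p.2) = 0 := by rw [hnz']; exact h1
      exact (smul_eq_zero.mp this).resolve_left hρ0
    rw [hι'] at hp0 h1'
    simp only [map_neg, smul_neg] at h1'
    have h3 : (2 : φ.K) • ι p.1 = 0 := by
      rw [two_smul]
      calc ι p.1 + ι p.1 = (ι p.1 + m • (t • ι p.2)) + (ι p.1 + -(m • (t • ι p.2))) := by abel
        _ = 0 := by rw [hp0, h1', add_zero]
    have h4 : ι p.1 = 0 := (smul_eq_zero.mp h3).resolve_left h2
    rw [h4, zero_add, smul_eq_zero] at hp0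
    have h5 : ι p.2 = 0 := (smul_eq_zero_iff_eq t).mp (hp0.resolve_left hm)
    exact Prod.ext (hinj (h4.trans (map_zero ι).symm)) (hinj (h5.trans (map_zero ι).symm))
  · exact fun p x hx r hr => hWmul x hx r hr p
  · intro x hx
    obtain ⟨r, hr, a, b, rfl⟩ := hR' x hx
    obtain ⟨c, μ, hμ, hμ', hc⟩ := hact r hr
    refine ⟨(c, a, b), _, ?_, hactall r hr c μ hμ' a b, fun h => ?_⟩
    · refine hmulnd ?_ (hmulnd ?_ hμ) <;> split_ifs
      exacts [hnt, hone, hnz, hone]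
    · simp only [Prod.mk.injEq] at h
      obtain ⟨rfl, rfl, rfl⟩ := h
      simpa using hc rfl
  · rintro ⟨c, a, b⟩
    obtain ⟨r, hr, μ, hμ, hμ'⟩ := hreal c
    refine ⟨_, mul_mem (mul_mem (hRR' hr) ?_) ?_, _, ?_, hactall r hr c μ hμ' a b⟩
    · split_ifs; exacts [hzR', one_mem _]
    · split_ifs; exacts [htR', one_mem _]
    · refine hmulnd ?_ (hmulnd ?_ hμ) <;> split_ifs
      exacts [hnt, hone, hnz, hone]

end CfsgLib.OddPair.Frame
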