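import Cfsg.Agent.EvenPair.Exceptional.CertDef
import Cfsg.Agent.EvenPair.Exceptional.Coords

/-!
The certificate for the minus type in dimension sixteen over three elements.
-/

set_option autoImplicit false
set_option maxRecDepth 20000
set_option maxHeartbeats 4000000
set_option synthInstance.maxSize 4000
set_option synthInstance.maxHeartbeats 400000

namespace CfsgLib.EvenPair

open CfsgLib.OddPair.Frame (double)

namespace Minus16

/-- The coordinates. -/
abbrev X16 : Type := (((ZMod 3 × ZMod 3) × (ZMod 3 × ZMod 3)) × ((ZMod 3 × ZMod 3) × (ZMod 3 × ZMod 3))) ×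
  (((ZMod 3 × ZMod 3) × (ZMod 3 × ZMod 3)) × ((ZMod 3 × ZMod 3) × (ZMod 3 × ZMod 3)))

/-- The labels of the maps. -/
abbrev C16 : Type := (((Bool × Bool) × Bool × Bool) × Bool × Bool) × Bool × Bool

/-- The maps. -/
def op16 : C16 → X16 → X16 := double (double (double opMinus))

/-- A label from eight binary digits. -/
def code (n : ℕ) : C16 :=
  ((((n.testBit 7, n.testBit 6), n.testBit 5, n.testBit 4), n.testBit 3, n.testBit 2), n.testBit 1, n.testBit 0)

/-- The determinant form. -/
def formBase : ZMod 3 × ZMod 3 → ZMod 3 × ZMod 3 → ZMod 3 := fun x y => x.1 * y.2 - x.2 * y.1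

/-- The orthogonal sum of two copies of a form. -/
def formDouble {X : Type} (b : X → X → ZMod 3) : X × X → X × X → ZMod 3 := fun x y => b x.1 y.1 + b x.2 y.2

/-- The invariant form. -/
def form : X16 → X16 → ZMod 3 := formDouble (formDouble (formDouble formBase))

/-- A sign. -/
def sgn {X : Type} [Neg X] (t : Bool) (x : X) : X := if t then -x else x

def vecV : X16 := ((((0, 0), (1, 1)), ((0, 0), (0, 1))), (((0, 0), (0, 0)), ((2, 1), (1, 0))))

def vecW : X16 := ((((0, 0), (0, 0)), ((1, 0), (0, 0))), (((2, 0), (2, 0)), ((0, 0), (0, 1))))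

def vecK : X16 := ((((1, 0), (0, 0)), ((0, 0), (0, 0))), (((0, 0), (0, 0)), ((0, 0), (0, 0))))

/-- The chosen labels. -/
def gen : Fin 8 → C16 := fun i => code ([115, 230, 89, 138, 162, 169, 188, 106].getD i.val 0)

/-- Possible images of the chosen labels. -/
def cand : Fin 8 → List (C16 × Bool) := fun i =>
  (([[(115, false), (230, true)], [(115, true), (230, false)], [(89, false), (138, true), (162, false), (228, true)], [(89, true), (138, false), (162, true), (228, false)], [(89, false), (138, true), (162, false), (228, true)], [(169, false), (169, true), (188, false), (188, true)], [(169, false), (169, true), (188, false), (188, true)], [(106, false), (129, true), (137, true), (148, false), (150, false), (161, true), (190, false), (194, false)]] : List (List (ℕ × Bool))).getD i.val []).map fun p => (code p.1, p.2)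

/-- Labels giving a basis, each as a word in the chosen labels with a sign. -/
def basisList : List (ℕ × List (Fin 8) × Bool) := [(0, [], false), (115, [0], false), (230, [1], false), (89, [2], false), (138, [3], false), (162, [4], false), (169, [5], false), (188, [6], false), (106, [7], false), (149, [0, 1], false), (42, [0, 2], true), (249, [0, 3], false), (209, [0, 4], true), (218, [0, 5], false), (207, [0, 6], false), (25, [0, 7], true)]

/-- The standard basis as combinations. -/
def coefList : List (List (ℕ × Bool)) := [[(0, false), (2, false), (3, true), (5, true), (6, false), (7, true), (8, false), (9, true), (10, false), (11, false), (14, false)], [(0, true), (6, false), (11, true), (12, false), (14, false)], [(0, false), (2, false), (5, false), (7, true), (8, false), (11, true), (13, false), (15, true)], [(0, true), (1, true), (2, false), (3, true), (4, false), (5, true), (6, false), (7, true), (8, true), (9, true), (10, false), (13, false), (14, false), (15, true)], [(0, false), (3, true), (4, true), (6, false), (8, false), (9, true), (10, false),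 (11, false), (12, false), (14, false), (15, false)], [(0, true), (1, false), (2, false), (3, true), (6, true), (7, true), (8, true), (9, false), (10, true), (11, true), (12, false), (13, false), (14, true), (15, false)], [(0, false), (4, true), (6, false), (8, false), (9, true), (10, false), (11, false), (14, false)], [(0, true), (1, true), (2, true), (3, true), (4, false), (7, false), (10, true), (11, false), (13, true), (15, false)], [(0, true), (1, true), (2, true), (3, true), (4, false), (7, false), (10, true), (11, true), (12, false), (13, true), (15, false)], [(0, true), (2, true), (3, true), (4, true), (6, true), (7, false), (8, true), (9, false), (10, true), (11, true), (13, true), (14, true)], [(1, false), (2, true), (3, true), (4, true), (5, false), (9, true), (10, true), (12, true), (14, false), (15, false)], [(2, false), (3, false), (5, false), (7, false), (9, false), (10, false), (12, false), (13, true), (14, true), (15, true)], [(0, true), (1, true), (2, false), (3, true), (6, true), (7, true), (8, true), (9, false), (10, true), (11, false),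 (13, false), (14, true), (15, true)], [(0, true), (2, true), (4, true), (6, true), (7, false), (8, true), (9, false), (10, true), (13, true), (14, true), (15, false)], [(0, true), (1, false), (2, false), (3, false), (4, true), (6, true), (7, true), (9, false), (11, false), (13, false), (14, true), (15, true)], [(0, true), (5, true), (6, true), (8, true), (9, false), (10, true), (11, true), (14, true)]]

/-- One step of a biadditive form invariant under the doubled maps. -/
theorem form_double {X C : Type} [AddCommGroup X] {op : C → X → X} (c0 : C) (hop0 : ∀ x, op c0 x = x)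
    (hop00 : ∀ c, op c 0 = 0)
    {b : X → X → ZMod 3}
    (hu : ∀ f : X → X → ZMod 3, (∀ x y z, f (x + y) z = f x z + f y z) → (∀ x y z, f x (y + z) = f x y + f x z) →
      (∀ c x y, f (op c x) (op c y) = f x y) → ∃ l, ∀ x y, f x y = l * b x y)
    (f : X × X → X × X → ZMod 3) (hl : ∀ x y z, f (x + y) z = f x z + f y z) (hr : ∀ x y z, f x (y + z) = f x y + f x z)
    (hinv : ∀ c x y, f (double op c x) (double op c y) = f x y) : ∃ l, ∀ x y, f x y = l * formDouble b x y := by
  have hop : ∀ c, op c 0 = 0 → ∀ x y : X, f (op c x, 0) (op c y, 0) = f (x, 0) (y, 0) := fun c hc x y => by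
    have h := hinv (c, false, false) (x, 0) (y, 0)
    simpa [double, hc] using h
  have hswap : ∀ x y : X, f (0, x) (0, y) = f (x, 0) (y, 0) := fun x y => by
    have h := hinv (c0, false, true) (x, 0) (y, 0)
    simpa [double, hop0] using h
  have hz : ∀ x : X × X, f 0 x = 0 ∧ f x 0 = 0 := fun x => by
    constructor
    · exact left_eq_add.mp (by rw [← hl, add_zero] : f 0 x = f 0 x + f 0 x)
    · exact left_eq_add.mp (by rw [← hr, add_zero] : f x 0 = f x 0 + f x 0)
  have hneg : ∀ x y, f x (-y) = -f x y := fun x y => eq_neg_of_add_eq_zero_left (by rw [← hr, neg_add_cancel, (hz x).2])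
  have hnegl : ∀ x y, f (-x) y = -f x y := fun x y => eq_neg_of_add_eq_zero_left (by rw [← hl, neg_add_cancel, (hz y).1])
  have hcross : ∀ x y : X, f (x, 0) (0, y) = 0 ∧ f (0, y) (x, 0) = 0 := fun x y => by
    constructor
    · have h := hinv (c0, true, false) (x, 0) (0, y)
      simp only [double, hop0, if_true, if_false, neg_zero, Bool.false_eq_true] at h
      rw [show ((0 : X), -y) = -((0, y) : X × X) by simp, hneg] at h
      revert h
      generalize f (x, 0) (0, y) = z
      revert z
      decide
    · have h := hinv (c0, true, false) (0, y) (x, 0)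
      simp only [double, hop0, if_true, if_false, neg_zero, Bool.false_eq_true] at h
      rw [show ((0 : X), -y) = -((0, y) : X × X) by simp, hnegl] at h
      revert h
      generalize f (0, y) (x, 0) = z
      revert z
      decide
  obtain ⟨l, hl'⟩ := hu (fun x y => f (x, 0) (y, 0)) (fun x y z => by rw [← hl]; simp)
    (fun x y z => by rw [← hr]; simp) (fun c => hop c (hop00 c))
  refine ⟨l, fun x y => ?_⟩
  have e : ∀ p : X × X, p = (p.1, 0) + (0, p.2) := fun p => by simp
  rw [e x, e y, hl, hr, hr, (hcross x.1 y.2).1, (hcross y.1 x.2).2, hswap, hl', hl']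
  simp [formDouble, mul_add]

/-- The form on the plane is the only invariant one. -/
theorem form_base (f : ZMod 3 × ZMod 3 → ZMod 3 × ZMod 3 → ZMod 3) (hl : ∀ x y z, f (x + y) z = f x z + f y z)
    (hr : ∀ x y z, f x (y + z) = f x y + f x z) (hinv : ∀ c x y, f (opMinus c x) (opMinus c y) = f x y) :
    ∃ l, ∀ x y, f x y = l * formBase x y := by
  let F : (ZMod 3 × ZMod 3) →+ (ZMod 3 × ZMod 3) →+ ZMod 3 :=
    AddMonoidHom.mk' (fun x => AddMonoidHom.mk' (f x) (hr x)) fun x y => by ext z <;> exact hl x y _
  have hF : ∀ x y, F x y = f x y := fun x y => rfl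
  have hL : ∀ (a : ZMod 3) x y, f (a • x) y = a * f x y := fun a x y => by
    rw [← hF, ← hF, ZMod.map_smul F a x]
    rfl
  have hR : ∀ (a : ZMod 3) x y, f x (a • y) = a * f x y := fun a x y => by
    rw [← hF, ← hF, ZMod.map_smul (F x) a y]
    rfl
  have e : ∀ p : ZMod 3 × ZMod 3, p = p.1 • (1, 0) + p.2 • (0, 1) := fun p => by simp
  have j1 := hinv (true, false) (1, 0) (1, 0)
  have j2 := hinv (true, false) (1, 0) (0, 1)
  have s1 := hinv (false, true) (1, 0) (1, 0)
  simp only [opMinus, if_true, if_false, Bool.false_eq_true, id] at j1 j2 s1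
  norm_num at j1 j2 s1
  have e2 : ((-1 : ZMod 3), (0 : ZMod 3)) = (-1 : ZMod 3) • (1, 0) := by simp
  have e3 : ((1 : ZMod 3), (-1 : ZMod 3)) = (1, 0) + (-1 : ZMod 3) • (0, 1) := by simp
  rw [e2, hR] at j2
  rw [e3, hl, hr, hr, hL, hR, hL, hR] at s1
  have key : ∀ b11 b12 b21 b22 : ZMod 3, b22 = b11 → -1 * b21 = b12 →
      b11 + -1 * b12 + (-1 * b21 + -1 * (-1 * b22)) = b11 → b11 = 0 ∧ b22 = 0 ∧ b21 = -b12 := by decide
  obtain ⟨h11, h22, h21⟩ := key _ _ _ _ j1 j2 s1
  refine ⟨f (1, 0) (0, 1), fun x y => ?_⟩
  rw [e x, e y, hl, hr, hr, hL, hR, hL, hR, hL, hR, hL, hR, h11, h22, h21]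
  simp [formBase]
  ring

theorem double_id {X C : Type} [AddCommGroup X] {op : C → X → X} {c0 : C} (h : ∀ x, op c0 x = x) (x : X × X) :
    double op (c0, false, false) x = x := by
  simp [double, h]

theorem double_zero {X C : Type} [AddCommGroup X] {op : C → X → X} (h : ∀ c, op c 0 = 0) (c : C × Bool × Bool) :
    double op c 0 = 0 := by
  obtain ⟨c, a, b⟩ := c
  cases a <;> cases b <;> simp [double, h]

theorem opMinus_zero (c : Bool × Bool) : opMinus c 0 = 0 := by
  obtain ⟨a, b⟩ := c
  cases a <;> cases b <;> simp [opMinus]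

theorem double_neg {X C : Type} [AddCommGroup X] {op : C → X → X} (h : ∀ c x, op c (-x) = -op c x)
    (c : C × Bool × Bool) (x : X × X) : double op c (-x) = -double op c x := by
  obtain ⟨c, a, b⟩ := c
  obtain ⟨x, y⟩ := x
  cases a <;> cases b <;> simp [double, h]

theorem opMinus_neg (c : Bool × Bool) (x : ZMod 3 × ZMod 3) : opMinus c (-x) = -opMinus c x := by
  obtain ⟨a, b⟩ := c
  cases a <;> cases b <;> simp [opMinus] <;> ring_nf <;> simp

theorem op16_neg : ∀ (c : C16) (x : X16), op16 c (-x) = -op16 c x :=
  double_neg (double_neg (double_neg opMinus_neg))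

theorem opMinus_id (x : ZMod 3 × ZMod 3) : opMinus (false, false) x = x := rfl

theorem form_unique (f : X16 → X16 → ZMod 3) (hl : ∀ x y z, f (x + y) z = f x z + f y z)
    (hr : ∀ x y z, f x (y + z) = f x y + f x z) (hinv : ∀ c x y, f (op16 c x) (op16 c y) = f x y) :
    ∃ l, ∀ x y, f x y = l * form x y :=
  form_double ((((false, false), false, false), false, false)) (double_id (double_id opMinus_id))
    (double_zero (double_zero opMinus_zero))
    (form_double (((false, false), false, false)) (double_id opMinus_id) (double_zero opMinus_zero)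
      (form_double (false, false) opMinus_id opMinus_zero form_base))
    f hl hr hinv

/-- The maps preserve the base form. -/
theorem formBase_inv : ∀ (c : Bool × Bool) x y, formBase (opMinus c x) (opMinus c y) = formBase x y := by decide

theorem formDouble_inv {X C : Type} [AddCommGroup X] {op : C → X → X} {b : X → X → ZMod 3}
    (h : ∀ c x y, b (op c x) (op c y) = b x y) (hn : ∀ x y, b (-x) (-y) = b x y) (c : C × Bool × Bool) (x y : X × X) :
    formDouble b (double op c x) (double op c y) = formDouble b x y := by
  obtain ⟨c, a, t⟩ := c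
  cases a <;> cases t <;> simp [formDouble, double, h, hn, add_comm]

theorem formBase_neg (x y : ZMod 3 × ZMod 3) : formBase (-x) (-y) = formBase x y := by simp [formBase]

theorem formDouble_neg {X : Type} [AddCommGroup X] {b : X → X → ZMod 3} (hn : ∀ x y, b (-x) (-y) = b x y)
    (x y : X × X) : formDouble b (-x) (-y) = formDouble b x y := by simp [formDouble, hn]

theorem form_inv (c : C16) (x y : X16) : form (op16 c x) (op16 c y) = form x y :=
  formDouble_inv (formDouble_inv (formDouble_inv formBase_inv formBase_neg) (formDouble_neg formBase_neg))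
    (formDouble_neg (formDouble_neg formBase_neg)) c x y

theorem formBase_add (x y z : ZMod 3 × ZMod 3) :
    formBase (x + y) z = formBase x z + formBase y z ∧ formBase x (y + z) = formBase x y + formBase x z := by
  constructor <;> simp [formBase] <;> ring

theorem formDouble_add {X : Type} [AddCommGroup X] {b : X → X → ZMod 3}
    (h : ∀ x y z, b (x + y) z = b x z + b y z ∧ b x (y + z) = b x y + b x z) (x y z : X × X) :
    formDouble b (x + y) z = formDouble b x z + formDouble b y z ∧
      formDouble b x (y + z) = formDouble b x y + formDouble b x z := by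
  constructor
  · simp only [formDouble, Prod.fst_add, Prod.snd_add, (h _ _ _).1]; ring
  · simp only [formDouble, Prod.fst_add, Prod.snd_add, (h _ _ _).2]; ring

theorem form_add (x y z : X16) : form (x + y) z = form x z + form y z ∧ form x (y + z) = form x y + form x z :=
  formDouble_add (formDouble_add (formDouble_add formBase_add)) x y z

theorem form_sgn_left (t : Bool) (x y : X16) : form (sgn t x) y = sgn t (form x y) := by
  cases t
  · rfl
  · exact map_neg (AddMonoidHom.mk' (fun z => form z y) fun a b => (form_add a b y).1) x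

/-- A multiple by a number prime to three is a sign. -/
theorem nsmul_eq_sgn {μ : ℕ} (hμ : ¬ 3 ∣ μ) : ∃ t, ∀ x : X16, μ • x = sgn t x := by
  have h0 : ((μ : ZMod 3)) ≠ 0 := fun h => hμ ((ZMod.natCast_eq_zero_iff μ 3).mp h)
  have hc : ∀ z : ZMod 3, z ≠ 0 → z = 1 ∨ z = -1 := by decide
  rcases hc _ h0 with h | h
  · exact ⟨false, fun x => by rw [← Nat.cast_smul_eq_nsmul (ZMod 3), h, one_smul]; rfl⟩
  · exact ⟨true, fun x => by rw [← Nat.cast_smul_eq_nsmul (ZMod 3), h, neg_one_smul]; rfl⟩

/-- The value of a word in the chosen labels at `vecV`. -/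
def word : List (Fin 8) → X16
  | [] => vecV
  | i :: l => op16 (gen i) (word l)

/-- A combination of the basis vectors. -/
def comb (l : List (ℕ × Bool)) : X16 :=
  (l.map fun p => sgn p.2 (op16 (code (basisList.getD p.1 (0, [], false)).1) vecV)).sum

def stdDouble {X : Type} [AddCommGroup X] (l : List X) : List (X × X) :=
  l.map (fun x => (x, 0)) ++ l.map (fun x => (0, x))

def stdBase : List (ZMod 3 × ZMod 3) := [(1, 0), (0, 1)]

def stdList : List X16 := stdDouble (stdDouble (stdDouble stdBase))

theorem stdBase_top (S : AddSubgroup (ZMod 3 × ZMod 3)) (h : ∀ e ∈ stdBase, e ∈ S) : S = ⊤ := by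
  refine (AddSubgroup.eq_top_iff' S).mpr fun p => ?_
  have e : p = p.1.val • (1, 0) + p.2.val • (0, 1) := by simp
  rw [e]
  exact add_mem (nsmul_mem (h _ (by simp [stdBase])) _) (nsmul_mem (h _ (by simp [stdBase])) _)

theorem stdDouble_top {X : Type} [AddCommGroup X] {l : List X}
    (h : ∀ S : AddSubgroup X, (∀ e ∈ l, e ∈ S) → S = ⊤) (S : AddSubgroup (X × X))
    (hS : ∀ e ∈ stdDouble l, e ∈ S) : S = ⊤ := by
  have h1 := h (S.comap (AddMonoidHom.inl X X)) fun e he => hS _ (by simp [stdDouble, he])
  have h2 := h (S.comap (AddMonoidHom.inr X X)) fun e he => hS _ (by simp [stdDouble, he])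
  refine (AddSubgroup.eq_top_iff' S).mpr fun p => ?_
  have e1 : (p.1, (0 : X)) ∈ S := (h1.ge (AddSubgroup.mem_top p.1) :)
  have e2 : ((0 : X), p.2) ∈ S := (h2.ge (AddSubgroup.mem_top p.2) :)
  simpa using add_mem e1 e2

theorem comb_eq : coefList.map comb = stdList := by decide +kernel

theorem basis_words : ∀ b ∈ basisList, op16 (code b.1) vecV = sgn b.2.2 (word b.2.1) := by decide +kernel

theorem top_of_basis (S : AddSubgroup X16) (hS : ∀ b ∈ basisList, op16 (code b.1) vecV ∈ S) : S = ⊤ := by
  refine stdDouble_top (stdDouble_top (stdDouble_top stdBase_top)) S fun e he => ?_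
  rw [← stdList, ← comb_eq, List.mem_map] at he
  obtain ⟨l, -, rfl⟩ := he
  refine list_sum_mem fun x hx => ?_
  obtain ⟨⟨k, t⟩, -, rfl⟩ := List.mem_map.mp hx
  have hmem : op16 (code (basisList.getD k (0, [], false)).1) vecV ∈ S := by
    by_cases hk : k < basisList.length
    · rw [List.getD_eq_getElem _ _ hk]; exact hS _ (List.getElem_mem hk)
    · rw [List.getD_eq_default _ _ (le_of_not_gt hk)]
      exact hS (0, [], false) (by simp [basisList])
  cases t
  · exact hmem
  · exact neg_mem hmem

/-- The invariant of one label. -/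
def key (p : C16 × Bool) : List (ZMod 3) :=
  [sgn p.2 (form (op16 p.1 vecV) vecV), sgn p.2 (form (op16 p.1 vecV) vecW),
   sgn p.2 (form (op16 p.1 vecW) vecV), sgn p.2 (form (op16 p.1 vecW) vecW),
   form (op16 p.1 (op16 p.1 vecV)) vecW]

/-- The invariant of two labels. -/
def pairKey (p r : C16 × Bool) : List (ZMod 3) :=
  [sgn (p.2 ^^ r.2) (form (op16 p.1 (op16 r.1 vecV)) vecV), sgn (p.2 ^^ r.2) (form (op16 p.1 (op16 r.1 vecV)) vecW),
   sgn (p.2 ^^ r.2) (form (op16 p.1 (op16 r.1 vecW)) vecV), sgn (p.2 ^^ r.2) (form (op16 p.1 (op16 r.1 vecW)) vecW)]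

/-- The check of a new image against the earlier ones. -/
def compat (n : Fin 8) (p : C16 × Bool) (l : List (Fin 8 × (C16 × Bool))) : Bool :=
  l.all fun r => pairKey p r.2 == pairKey (gen n, false) (gen r.1, false) &&
    pairKey r.2 p == pairKey (gen r.1, false) (gen n, false)

/-- The partial assignments passing all checks. -/
def surv : List (Fin 8) → List (List (Fin 8 × (C16 × Bool)))
  | [] => [[]]
  | n :: ns => (surv ns).flatMap fun l => ((cand n).filter fun p => compat n p l).map fun p => (n, p) :: l

theorem mem_surv (f : Fin 8 → C16 × Bool) (h1 : ∀ i, f i ∈ cand i)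
    (h2 : ∀ i j, pairKey (f i) (f j) = pairKey (gen i, false) (gen j, false)) :
    ∀ ns : List (Fin 8), ns.map (fun i => (i, f i)) ∈ surv ns := by
  intro ns
  induction ns with
  | nil => simp [surv]
  | cons n ns ih =>
    refine List.mem_flatMap.mpr ⟨_, ih, List.mem_map.mpr ⟨f n, List.mem_filter.mpr ⟨h1 n, ?_⟩, rfl⟩⟩
    refine List.all_eq_true.mpr fun r hr => ?_
    obtain ⟨i, -, rfl⟩ := List.mem_map.mp hr
    simp [h2]

theorem cand_complete : ∀ (p : C16 × Bool) (i : Fin 8), key p = key (gen i, false) → p ∈ cand i := by decide +kernel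

theorem surv_eq : surv [7, 6, 5, 4, 3, 2, 1, 0] =
    [[7, 6, 5, 4, 3, 2, 1, 0].map fun i => (i, (gen i, false))] := by decide +kernel

theorem free_v : ∀ (c : C16) (t : Bool), op16 c vecV = sgn t vecV →
    c = (((((false, false), false, false), false, false), false, false)) := by decide +kernel

theorem free_w : ∀ (c : C16) (t : Bool), op16 c vecW = sgn t vecW →
    c = (((((false, false), false, false), false, false), false, false)) := by decide +kernel

theorem orbits : ∀ (c : C16) (t : Bool) (i j : Fin 3), i ≠ j →
    sgn t (op16 c (![vecV, vecW, vecK] i)) ≠ ![vecV, vecW, vecK] j := by decide +kernel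

theorem rigid (h : X16 →+ X16) (hv : h vecV = vecV) (hw : h vecW = vecW) (hb : Function.Bijective h)
    (hn : ∀ c, ∃ c' μ, ¬ 3 ∣ μ ∧ ∀ x, h (op16 c x) = μ • op16 c' (h x)) : ∀ x, h x = x := by
  have hn' : ∀ c, ∃ p : C16 × Bool, ∀ x, h (op16 c x) = sgn p.2 (op16 p.1 (h x)) := fun c => by
    obtain ⟨c', μ, hμ, hh⟩ := hn c
    obtain ⟨t, ht⟩ := nsmul_eq_sgn hμ
    exact ⟨(c', t), fun x => by rw [hh, ht]⟩
  choose φ hφ using hn'
  obtain ⟨l, hl⟩ : ∃ l, ∀ x y, form (h x) (h y) = l * form x y :=
    form_unique (fun x y => form (h x) (h y)) (fun x y z => by rw [map_add, (form_add _ _ _).1])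
      (fun x y z => by rw [map_add, (form_add _ _ _).2]) fun c x y => by
        have hn2 : ∀ (t : Bool) (a b : X16), form (sgn t a) (sgn t b) = form a b := fun t a b => by
          cases t
          · rfl
          · exact formDouble_neg (formDouble_neg (formDouble_neg formBase_neg)) a b
        show form (h (op16 c x)) (h (op16 c y)) = form (h x) (h y)
        rw [hφ, hφ, hn2, form_inv]
  have hl1 : l = 1 := by
    have h1 := hl vecV vecW
    rw [hv, hw] at h1
    have h0 : form vecV vecW ≠ 0 := by decide +kernel
    exact (mul_eq_right₀ h0).mp h1.symm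
  have hB : ∀ x y, form (h x) (h y) = form x y := fun x y => by rw [hl, hl1, one_mul]
  have hfix : ∀ x y, h y = y → form x y = form (h x) y := fun x y hy => by
    conv_lhs => rw [← hB, hy]
  have hsgn2 : ∀ (t u : Bool) (x : X16), sgn t (sgn u x) = sgn (t ^^ u) x := fun t u x => by
    cases t <;> cases u <;> simp [sgn]
  have hneg : ∀ (c : C16) (t : Bool) (x : X16), h (sgn t x) = sgn t (h x) := fun c t x => by
    cases t <;> simp [sgn]
  have hone : ∀ c x y, h x = x → h y = y →
      sgn (φ c).2 (form (op16 (φ c).1 x) y) = form (op16 c x) y := fun c x y hx hy => by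
    rw [hfix (op16 c x) y hy, hφ, hx, form_sgn_left]
  have hopneg : ∀ (c : C16) (t : Bool) (x : X16), op16 c (sgn t x) = sgn t (op16 c x) := fun c t x => by
    cases t
    · rfl
    · exact op16_neg c x
  have htwo : ∀ c d x y, h x = x → h y = y → sgn ((φ c).2 ^^ (φ d).2) (form (op16 (φ c).1 (op16 (φ d).1 x)) y) =
      form (op16 c (op16 d x)) y := fun c d x y hx hy => by
    rw [hfix (op16 c (op16 d x)) y hy, hφ, hφ, hx, hopneg, hsgn2, form_sgn_left]
  have hkey : ∀ c, key (φ c) = key (c, false) := fun c => by
    have e := htwo c c vecV vecW hv hw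
    simp only [Bool.xor_self] at e
    simp only [key, List.cons.injEq]
    exact ⟨hone c _ _ hv hv, hone c _ _ hv hw, hone c _ _ hw hv, hone c _ _ hw hw, e, trivial⟩
  have hpair : ∀ c d, pairKey (φ c) (φ d) = pairKey (c, false) (d, false) := fun c d => by
    simp only [pairKey, List.cons.injEq]
    exact ⟨htwo c d _ _ hv hv, htwo c d _ _ hv hw, htwo c d _ _ hw hv, htwo c d _ _ hw hw, trivial⟩
  have hmem := mem_surv (fun i => φ (gen i)) (fun i => cand_complete _ i (hkey _)) (fun i j => hpair _ _)
    [7, 6, 5, 4, 3, 2, 1, 0]
  rw [surv_eq, List.mem_singleton] at hmem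
  have hgen : ∀ i, φ (gen i) = (gen i, false) := fun i =>
    congrArg Prod.snd (List.map_inj_left.mp hmem i (by revert i; decide))
  have hword : ∀ l, h (word l) = word l := by
    intro l
    induction l with
    | nil => exact hv
    | cons i l ih => show h (op16 (gen i) (word l)) = _; rw [hφ, hgen, ih]; rfl
  let S : AddSubgroup X16 :=
    { carrier := {x | h x = x}
      zero_mem' := map_zero h
      add_mem' := fun {x y} hx hy => by show h (x + y) = x + y; rw [map_add, hx, hy]
      neg_mem' := fun {x} hx => by show h (-x) = -x; rw [map_neg, hx] }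
  have htop : S = ⊤ := top_of_basis S fun b hb' => by
    show h _ = _
    rw [basis_words b hb', hneg (code 0), hword]
  exact fun x => (htop.ge (AddSubgroup.mem_top x) :)

end Minus16

open Minus16 in
/-- The certificate for the minus type in dimension sixteen. -/
theorem isCert_minus16 :
    IsCert 3 (double (double (double opMinus))) (((((false, false), false, false), false, false), false, false)) := by
  refine ⟨vecV, vecW, ![vecV, vecW, vecK], fun c μ hμ he => ?_, ?_, fun h hb hv hw hn => rigid h hv hw hb hn,
    ?_, fun c μ i j hij hμ he => ?_, fun c μ i hi hμ he => ?_⟩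
  · obtain ⟨t, ht⟩ := nsmul_eq_sgn hμ
    exact free_v c t (he.trans (ht _))
  · exact top_of_basis _ fun b _ => AddSubgroup.subset_closure ⟨code b.1, rfl⟩
  · decide +kernel
  · obtain ⟨t, ht⟩ := nsmul_eq_sgn hμ
    exact orbits c t i j hij ((ht _).symm.trans he)
  · obtain ⟨t, ht⟩ := nsmul_eq_sgn hμ
    have hinv : ∀ {x y : X16}, sgn t x = y → x = sgn t y := fun {x y} e => by
      cases t
      · exact e
      · rw [← e]; exact (neg_neg x).symm
    have h1 : op16 c (![vecV, vecW, vecK] i) = sgn t (![vecV, vecW, vecK] i) := hinv ((ht _).symm.trans he)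
    fin_cases i
    · exact free_v c t h1
    · exact free_w c t h1
    · exact absurd rfl hi

end CfsgLib.EvenPair
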