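import Cfsg.Agent.EvenPair.Exceptional.Planes

/-!
An anisotropic pivot plane over three elements.
-/

set_option autoImplicit false
set_option linter.style.haveILetI false

open scoped commutatorElement

namespace CfsgLib.EvenPair

theorem opMinus_hnv : ∀ (c : Bool × Bool) (μ : Fin 3), μ ≠ 0 →
    opMinus c (1, 0) = (μ : ℕ) • ((1, 0) : ZMod 3 × ZMod 3) → c = (false, false) := by decide +kernel

theorem opMinus_span : ∀ x : ZMod 3 × ZMod 3,
    x = x.1.val • opMinus (false, false) (1, 0) + x.2.val • opMinus (true, false) (1, 0) := by decide +kernel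

theorem opMinus_non : ∀ (c : Bool × Bool) (μ : Fin 3), μ ≠ 0 →
    (μ : ℕ) • opMinus c (1, 0) = ((1, 0) : ZMod 3 × ZMod 3) → c = (false, false) := by decide +kernel

theorem opMinus_exp : ∀ x : ZMod 3 × ZMod 3, 3 • x = 0 := by decide +kernel

theorem opMinus_basis : ∀ x : ZMod 3 × ZMod 3,
    x = x.1.val • ((1, 0) : ZMod 3 × ZMod 3) + x.2.val • ((0, 1) : ZMod 3 × ZMod 3) := by decide +kernel

theorem opMinus_ne : ((1, 0) : ZMod 3 × ZMod 3) ≠ 0 := by decide +kernel

end CfsgLib.EvenPair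

namespace CfsgLib.OddPair.Frame

open CfsgLib.EvenPair (opMinus IsCert)

variable {A V : Type} [Group A] [Finite A] [AddCommGroup V] [Finite V] [Nontrivial V] [DistribMulAction A V]
variable (φ : Frame A V) [FaithfulSMul A V] [Group.IsSolvable A] [Fact (Nat.Prime 3)]

/-- A pair when the pivot plane leaves at most two cosets. -/
theorem pair_minus_small (hK : Nat.card φ.K = 3) (hsq : ∀ f ∈ φ.F, f ^ 2 ∈ φ.C)
    (κ : φ.Coords 3 opMinus (false, false)) (hsmall : φ.C.relIndex κ.Zc ≤ 2) :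
    ∃ v w : V, ∀ g : A, g • v = v → g • w = w → g = 1 := by
  have hX := EvenPair.opMinus_exp
  have hmod : ∀ (μ : ℕ) (x : ZMod 3 × ZMod 3), μ • x = (μ % 3) • x := fun μ x => by
    conv_lhs => rw [← Nat.div_add_mod μ 3, add_smul, mul_smul, hX, zero_add]
  let fin : ℕ → Fin 3 := fun μ => ⟨μ % 3, Nat.mod_lt _ three_pos⟩
  have hfin : ∀ μ, ¬ 3 ∣ μ → fin μ ≠ 0 := fun μ h e => h (Nat.dvd_of_mod_eq_zero (congrArg Fin.val e))
  refine φ.pair_of_parts hK hsq κ (1, 0) (0, 1) (fun _ => (1, 0)) ?_ ?_ ?_ (fun _ => EvenPair.opMinus_ne) (Or.inl ?_) ?_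
  · exact fun c μ hμ h => EvenPair.opMinus_hnv c (fin μ) (hfin μ hμ) (h.trans (hmod μ _))
  · refine top_unique fun x _ => ?_
    rw [EvenPair.opMinus_span x]
    have hm : ∀ c, opMinus c ((1, 0) : ZMod 3 × ZMod 3) ∈
        AddSubgroup.closure (Set.range fun c => opMinus c ((1, 0) : ZMod 3 × ZMod 3)) := fun c =>
      AddSubgroup.subset_closure ⟨c, rfl⟩
    exact add_mem (nsmul_mem (hm _) _) (nsmul_mem (hm _) _)
  · intro h _ hv hw _ x
    rw [EvenPair.opMinus_basis x, map_add, map_nsmul, map_nsmul, hv, hw]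
  · rw [κ.hZp, ← φ.relIndex_eq_centralizer κ.Zc (κ.hZcp.trans (κ.hZp.le.trans inf_le_left))]
    exact hsmall
  · exact fun c μ i _ hμ h => EvenPair.opMinus_non c (fin μ) (hfin μ hμ) ((hmod μ _).symm.trans h)

/-- An anisotropic pivot pair. -/
theorem pair_minus (hK : Nat.card φ.K = 3) (hcop : (Nat.card A).Coprime 3)
    (hsq : ∀ f ∈ φ.F, f ^ 2 ∈ φ.C) (Zc Zp : Subgroup A) (v0 : V) (j s : A) (l m : φ.K)
    (hCZ : φ.C ≤ Zc) (hZcp : Zc ≤ Zp) (hZp : Zp = φ.F ⊓ Subgroup.centralizer (Zc : Set A))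
    (hv0 : v0 ≠ 0) (heig : ∀ z ∈ Zc, ∃ r : φ.K, z • v0 = r • v0)
    (hj : j ∈ φ.F) (hs : s ∈ φ.F) (hjZ : j ∈ Zp) (hsZ : s ∈ Zp) (hl : l ≠ 0) (hm : m ≠ 0)
    (hle : φ.scal (j ^ 2) (hsq j hj) * l ^ 2 = -1) (hme : φ.scal (s ^ 2) (hsq s hs) * m ^ 2 = -1)
    (hsj : φ.scal ⁅s, j⁆ (φ.comm_mem s hs j hj) = -1) (hns : ¬ IsSquare (-1 : φ.K))
    (hdec : ∀ π ∈ Zp, ∃ z ∈ Zc, π = z ∨ π = z * j ∨ π = z * s ∨ π = z * (j * s))
    (hcert : IsCert 3 (double (double (double opMinus)))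
      (((((false, false), false, false), false, false), false, false))) :
    ∃ v w : V, ∀ g : A, g • v = v → g • w = w → g = 1 := by
  classical
  have h2 : (2 : φ.K) ≠ 0 := by
    exact_mod_cast fun e => absurd ((φ.natCast_eq_zero_iff_dvd hK 2).mp (by exact_mod_cast e)) (by decide)
  have h3 : (3 : φ.K) = 0 := by exact_mod_cast (φ.natCast_eq_zero_iff_dvd hK 3).mpr dvd_rfl
  have hneg : (-1 : φ.K) ≠ 1 := fun e => h2 (by linear_combination -e)
  have hneg2 : ∀ x : V, -(x + x) = x := fun x => by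
    have e : (3 : φ.K) • x = 0 := by rw [h3, zero_smul]
    rw [neg_eq_iff_add_eq_zero]
    rw [show (3 : φ.K) = 1 + 1 + 1 by norm_num, add_smul, add_smul, one_smul] at e
    exact e
  have hZL : Zc ≤ φ.L := (hZcp.trans (hZp.le.trans inf_le_left)).trans φ.F_le
  obtain ⟨J, hJdef⟩ : ∃ J : V → V, ∀ x, J x = l • (j • x) := ⟨_, fun x => rfl⟩
  obtain ⟨S, hSdef⟩ : ∃ S : V → V, ∀ x, S x = m • (s • x) := ⟨_, fun x => rfl⟩
  have hJJ : ∀ x, J (J x) = -x := fun x => by
    rw [hJdef, hJdef, φ.scaled_sq hj (hsq j hj) hle, neg_one_smul]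
  have hSS : ∀ x, S (S x) = -x := fun x => by
    rw [hSdef, hSdef, φ.scaled_sq hs (hsq s hs) hme, neg_one_smul]
  have hSJ : ∀ x, S (J x) = -(J (S x)) := fun x => by
    rw [hSdef, hJdef, hJdef, hSdef]; exact φ.scaled_anti hj hs hsj l m x
  have hJa : ∀ x y, J (x + y) = J x + J y := fun x y => by rw [hJdef, hJdef, hJdef, smul_add, smul_add]
  have hSa : ∀ x y, S (x + y) = S x + S y := fun x y => by rw [hSdef, hSdef, hSdef, smul_add, smul_add]
  have hJc : ∀ (c : φ.K) x, J (c • x) = c • J x := fun c x => by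
    rw [hJdef, hJdef, φ.L_smul (φ.F_le hj), smul_comm]
  have hSc : ∀ (c : φ.K) x, S (c • x) = c • S x := fun c x => by
    rw [hSdef, hSdef, φ.L_smul (φ.F_le hs), smul_comm]
  have hJn : ∀ x, J (-x) = -J x := fun x => by rw [hJdef, hJdef, smul_neg, smul_neg]
  have hBJ : ∀ y, φ.InBlock Zc v0 y → φ.InBlock Zc v0 (J y) := fun y hy => by
    rw [hJdef]; exact (hy.smul_cent hZp hjZ).smul hZL l
  have hBS : ∀ y, φ.InBlock Zc v0 y → φ.InBlock Zc v0 (S y) := fun y hy => by
    rw [hSdef]; exact (hy.smul_cent hZp hsZ).smul hZL m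
  -- the sum of the two maps is an involution
  have hEE : ∀ x, J (J x + S x) + S (J x + S x) = x := fun x => by
    rw [hJa, hSa, hJJ, hSS, hSJ]
    calc -x + J (S x) + (-(J (S x)) + -x) = -(x + x) := by abel
      _ = x := hneg2 x
  have hB0 := φ.inBlock_self Zc v0
  obtain ⟨u, hu0, huB, huE⟩ : ∃ u, u ≠ 0 ∧ φ.InBlock Zc v0 u ∧ J u + S u = u := by
    have hfix : ∀ x, J (x + (J x + S x)) + S (x + (J x + S x)) = x + (J x + S x) := fun x => by
      rw [hJa, hSa]
      calc J x + J (J x + S x) + (S x + S (J x + S x)) = (J x + S x) + (J (J x + S x) + S (J x + S x)) := by abel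
        _ = x + (J x + S x) := by rw [hEE, add_comm]
    by_cases h : v0 + (J v0 + S v0) = 0
    · by_cases h' : J v0 + (J (J v0) + S (J v0)) = 0
      · exfalso
        have e0 : S v0 = -v0 + -J v0 := by
          calc S v0 = (v0 + (J v0 + S v0)) + (-v0 + -J v0) := by abel
            _ = _ := by rw [h, zero_add]
        rw [hJJ, hSJ, e0, hJa, hJn, hJn, hJJ] at h'
        have e2 : J v0 = v0 := by
          refine sub_eq_zero.mp ((smul_eq_zero.mp (?_ : (2 : φ.K) • (J v0 - v0) = 0)).resolve_left h2)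
          rw [two_smul, ← h']
          abel
        have e3 := congrArg J e2
        rw [hJJ, e2] at e3
        exact hv0 ((smul_eq_zero.mp (by rw [two_smul]; exact neg_eq_iff_add_eq_zero.mp e3 :
          (2 : φ.K) • v0 = 0)).resolve_left h2)
      · exact ⟨_, h', (hBJ _ hB0).add ((hBJ _ (hBJ _ hB0)).add (hBS _ (hBJ _ hB0))), hfix _⟩
    · exact ⟨_, h, hB0.add ((hBJ _ hB0).add (hBS _ hB0)), hfix _⟩
  have hSu : S u = u - J u := eq_sub_of_add_eq' huE
  have hSJu : S (J u) = -u - J u := by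
    rw [hSJ, hSu, sub_eq_add_neg, hJa, hJn, hJJ]; abel
  obtain ⟨ι, c, hc, hι⟩ := φ.exists_plane hK u (J u)
  have hinj : Function.Injective ι := by
    rw [injective_iff_map_eq_zero]
    rintro ⟨a, b⟩ h
    rw [hι] at h
    simp only at h
    have h' := congrArg J h
    rw [hJa, hJc, hJc, hJJ, show J 0 = 0 by rw [hJdef, smul_zero, smul_zero]] at h'
    have e : (c a * c a + c b * c b) • u = 0 := by
      calc _ = c a • (c a • u + c b • J u) - c b • (c a • J u + c b • -u) := by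
            simp only [smul_add, smul_smul, smul_neg, add_smul, mul_comm (c b) (c a)]; abel
        _ = 0 := by rw [h, h', smul_zero, smul_zero, sub_zero]
    have e' := (smul_eq_zero.mp e).resolve_right hu0
    have hb : c b = 0 := by
      by_contra hb
      refine hns ⟨c a / c b, ?_⟩
      field_simp
      linear_combination -e'
    rw [hb, mul_zero, add_zero] at e'
    have ha := mul_self_eq_zero.mp e'
    rw [← map_zero c] at ha hb
    exact Prod.ext (hc.1 ha) (hc.1 hb)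
  obtain ⟨κ, hκ⟩ := φ.coords_pair hK hsq hneg Zc Zp v0 j s l m (-1) hCZ hZcp hZp hv0 heig hj hs hjZ hsZ hl hm hsj
    (neg_ne_zero.mpr one_ne_zero) hdec opMinus (fun r => (-r.2, r.1)) (fun r => (r.1 - r.2, -r.1 - r.2))
    (fun a b x => rfl) ι hinj
    (fun x => by rw [hι]; exact (huB.smul hZL _).add ((hBJ _ huB).smul hZL _))
    (fun x => by
      rw [← hJdef, hι, hι]
      simp only [hJa, hJc, hJJ, map_neg, neg_smul, smul_neg]
      abel)
    (fun x => by
      rw [← hSdef, hι, hι]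
      simp only [hSa, hSc, hSu, hSJu, map_neg, map_sub, neg_smul, sub_smul, smul_sub, smul_neg]
      abel)
  by_cases hsmall : φ.C.relIndex κ.Zc ≤ 2
  · exact φ.pair_minus_small hK hsq κ hsmall
  have htwo : ∀ (W W' : Subgroup A), φ.C ≤ W → W' ≤ φ.C → (∃ z, ∀ x ∈ W, x ∈ W' ∨ x * z ∈ W') →
      φ.C.relIndex W ≤ 2 := by
    rintro W W' hCW hW' ⟨z, hz⟩
    by_cases hWC : W ≤ φ.C
    · rw [Subgroup.relIndex_eq_one.mpr hWC]; norm_num
    obtain ⟨x1, hx1, hx1C⟩ := SetLike.not_le_iff_exists.mp hWC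
    haveI : Finite (W ⧸ φ.C.subgroupOf W) := inferInstance
    show Nat.card (W ⧸ φ.C.subgroupOf W) ≤ 2
    refine (Nat.card_le_card_of_surjective (fun b : Bool => ((if b then ⟨x1, hx1⟩ else 1 : W) : W ⧸ φ.C.subgroupOf W))
      fun y => ?_).trans (by rw [Nat.card_eq_fintype_card, Fintype.card_bool])
    induction y using QuotientGroup.induction_on with
    | H y =>
      by_cases hy : (y : A) ∈ φ.C
      · refine ⟨false, ?_⟩
        rw [QuotientGroup.eq, Subgroup.mem_subgroupOf]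
        simpa using hy
      · refine ⟨true, ?_⟩
        rw [QuotientGroup.eq, Subgroup.mem_subgroupOf]
        have e1 : x1 * z ∈ φ.C := hW' ((hz x1 hx1).resolve_left fun h => hx1C (hW' h))
        have e2 : (y : A) * z ∈ φ.C := hW' ((hz y y.2).resolve_left fun h => hy (hW' h))
        have e3 : (y : A) * x1⁻¹ ∈ φ.C := by
          have := mul_mem e2 (inv_mem e1)
          rwa [mul_inv_rev, ← mul_assoc, mul_inv_cancel_right] at this
        have e4 := φ.C_normal.conj_mem _ e3 x1⁻¹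
        simp only [if_pos, Subgroup.coe_mul, InvMemClass.coe_inv]
        rwa [inv_inv, show x1⁻¹ * ((y : A) * x1⁻¹) * x1 = x1⁻¹ * (y : A) by group] at e4
  obtain ⟨κ1, h1le, hz1⟩ := φ.coords_double hK hsq h2 κ fun h => hsmall (by
    rw [Subgroup.relIndex_eq_one.mpr h]; norm_num)
  obtain ⟨κ2, -, -⟩ := φ.coords_double hK hsq h2 κ1 fun h => hsmall (htwo _ _ κ.hCZ h hz1)
  by_cases h2small : κ2.Zc ≤ φ.C
  · exact (φ.no_minus_six hK hcop hsq κ2 h2small).elim
  obtain ⟨κ3, -⟩ := φ.coords_double hK hsq h2 κ2 h2small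
  exact φ.pair_of_cert hK hsq κ3 hcert

end CfsgLib.OddPair.Frame
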