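import Mathlib

/-!
Finite certificates for coordinate modules of a pivot quotient, and the maps of the base planes.
-/

set_option autoImplicit false

namespace CfsgLib.EvenPair

/-- A pair, three colour vectors and their properties in a module of coordinates. -/
def IsCert (q : ℕ) {X C : Type} [AddCommGroup X] (op : C → X → X) (c0 : C) : Prop :=
  ∃ (v w : X) (k : Fin 3 → X),
    (∀ c μ, ¬ q ∣ μ → op c v = μ • v → c = c0) ∧
    AddSubgroup.closure (Set.range fun c => op c v) = ⊤ ∧
    (∀ h : X →+ X, Function.Bijective h → h v = v → h w = w →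
      (∀ c, ∃ c' μ, ¬ q ∣ μ ∧ ∀ x, h (op c x) = μ • op c' (h x)) → ∀ x, h x = x) ∧
    (∀ i, k i ≠ 0) ∧
    (∀ c μ i j, i ≠ j → ¬ q ∣ μ → μ • op c (k i) ≠ k j) ∧
    (∀ c μ i, i ≠ 2 → ¬ q ∣ μ → μ • op c (k i) = k i → c = c0)

/-- The maps of an anisotropic pair on the plane over three elements. -/
def opMinus : Bool × Bool → ZMod 3 × ZMod 3 → ZMod 3 × ZMod 3 := fun c p =>
  (if c.1 then fun r => (-r.2, r.1) else id) ((if c.2 then fun r => (r.1 - r.2, -r.1 - r.2) else id) p)

/-- The maps of a hyperbolic pair on the plane. -/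
def opPlus (q : ℕ) : Bool × Bool → ZMod q × ZMod q → ZMod q × ZMod q := fun c p =>
  (if c.1 then fun r => (r.1, -r.2) else id) ((if c.2 then fun r => (r.2, r.1) else id) p)

/-- The diagonal maps on two copies. -/
def diagOp {X C : Type} (op : C → X → X) : C → X × X → X × X := fun c p => (op c p.1, op c p.2)

end CfsgLib.EvenPair
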