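import Cfsg.Agent.EvenPair.Exceptional.Coords
import Cfsg.Agent.EvenPair.Exceptional.CertDef

/-!
A pair of vectors from coordinates and a finite certificate.
-/

set_option autoImplicit false
set_option linter.style.haveILetI false

open scoped commutatorElement

namespace CfsgLib.OddPair.Frame

variable {A V : Type} [Group A] [Finite A] [AddCommGroup V] [Finite V] [Nontrivial V] [DistribMulAction A V]
variable (φ : Frame A V) {q : ℕ} [Fact q.Prime] [FaithfulSMul A V]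

/-- The assembly. -/
theorem pair_of_parts [Group.IsSolvable A] (hK : Nat.card φ.K = q) (hsq : ∀ f ∈ φ.F, f ^ 2 ∈ φ.C)
    {X C : Type} [AddCommGroup X] {op : C → X → X} {c0 : C} (κ : φ.Coords q op c0)
    (v w : X) (k : Fin 3 → X)
    (hnv : ∀ c μ, ¬ q ∣ μ → op c v = μ • v → c = c0)
    (hspan : AddSubgroup.closure (Set.range fun c => op c v) = ⊤)
    (hh : ∀ h : X →+ X, Function.Bijective h → h v = v → h w = w →
      (∀ c, ∃ c' μ, ¬ q ∣ μ ∧ ∀ x, h (op c x) = μ • op c' (h x)) → ∀ x, h x = x)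
    (hk0 : ∀ i, k i ≠ 0)
    (hsep : κ.Zp.relIndex φ.F ≤ 2 ∨ ∀ c μ i j, i ≠ j → ¬ q ∣ μ → μ • op c (k i) ≠ k j)
    (hnon : ∀ c μ i, i ≠ 2 → ¬ q ∣ μ → μ • op c (k i) = k i → c = c0) :
    ∃ v w : V, ∀ g : A, g • v = v → g • w = w → g = 1 := by
  classical
  obtain ⟨Zc, Zp, R, v0, ι, hCZ, hZcp, hZp, hv0, heig0, hCR, hRZp, hdisj, hfac, hinj, hW, hact, hreal⟩ := κ
  dsimp only at hsep ⊢
  have hp : q.Prime := Fact.out
  have hZpF : Zp ≤ φ.F := hZp.le.trans inf_le_left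
  have hZcF : Zc ≤ φ.F := hZcp.trans hZpF
  have hnsm : ∀ (g : A) (n : ℕ) (x : V), g • (n • x) = n • (g • x) := fun g n x =>
    map_nsmul (DistribMulAction.toAddMonoidHom V g) n x
  have hqX : ∀ x : X, q • x = 0 := fun x => hinj (by rw [map_nsmul, φ.prime_nsmul hK, map_zero])
  haveI : Finite X := Finite.of_injective ι hinj
  have hunit : ∀ n : ℕ, ¬ q ∣ n → ∃ n' : ℕ, ¬ q ∣ n' ∧ ∀ x : X, n' • n • x = x := by
    intro n hn
    obtain ⟨n', hn'⟩ := Nat.exists_mul_mod_eq_one_of_coprime ((hp.coprime_iff_not_dvd.mpr hn).symm) hp.one_lt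
    refine ⟨n', fun hd => ?_, fun x => ?_⟩
    · obtain ⟨d, rfl⟩ := hd
      rw [show n * (q * d) = q * (n * d) by ring, Nat.mul_mod_right] at hn'
      exact zero_ne_one hn'.2
    · rw [← mul_smul, mul_comm, ← Nat.div_add_mod (n * n') q, hn'.2, add_smul, one_smul, mul_smul, hqX, zero_add]
  have hdec : ∀ π ∈ Zp, ∃ c N, ¬ q ∣ N ∧ (∀ x, π • ι x = N • ι (op c x)) ∧ (c = c0 → π ∈ Zc) := by
    intro π hπ
    obtain ⟨z, hz, r, hr, rfl⟩ := hfac π hπ
    obtain ⟨ρ, hρ⟩ := heig0 z hz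
    obtain ⟨n, hn, hn'⟩ := φ.exists_nat_smul hK (r := ρ)
      (fun e => hv0 ((smul_eq_zero_iff_eq z).mp (by rw [hρ, e, zero_smul])))
    obtain ⟨c, μ, hμ, hμ', hc⟩ := hact r hr
    refine ⟨c, μ * n, fun h => (hp.dvd_mul.mp h).elim hμ hn, fun x => ?_, fun h => mul_mem hz (hCZ (hc h))⟩
    rw [mul_smul, hμ', hnsm, hW _ z hz ρ hρ, hn', ← mul_smul]
  have hv : ι v ≠ 0 := fun e => by
    have e' : v = 0 := hinj (e.trans (map_zero ι).symm)
    have htop : ∀ x : X, x = 0 := by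
      intro x
      have hx : x ∈ AddSubgroup.closure (Set.range fun c => op c v) := hspan ▸ AddSubgroup.mem_top x
      induction hx using AddSubgroup.closure_induction with
      | mem y hy =>
        obtain ⟨c, rfl⟩ := hy
        obtain ⟨r, hr, μ, hμ, hμ'⟩ := hreal c
        obtain ⟨μ', hμ1, hμ2⟩ := hunit μ hμ
        have h0 : μ • op c v = 0 := hinj (by rw [map_nsmul, map_zero, ← hμ' v, e, smul_zero])
        show op c v = 0
        rw [← hμ2 (op c v), h0, smul_zero]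
      | zero => rfl
      | add a b _ _ ha hb => rw [ha, hb, add_zero]
      | neg a _ ha => rw [ha, neg_zero]
    exact hk0 0 (htop _)
  have hWv : ∀ x, φ.InBlock Zc (ι v) (ι x) := fun x => φ.inBlock_congr hv heig0 (hW v) (hW x)
  have heig : ∀ z ∈ Zc, ∃ r : φ.K, z • ι v = r • ι v := fun z hz => by
    obtain ⟨r, hr⟩ := heig0 z hz
    exact ⟨r, hW v z hz r hr⟩
  have hne : ∀ n ∈ Zp, ∀ r : φ.K, n • ι v = r • ι v → n ∈ Zc := by
    intro π hπ r hr
    obtain ⟨c, N, hN, hN', hc⟩ := hdec π hπ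
    obtain ⟨n, hn, hn'⟩ := φ.exists_nat_smul hK (r := r) (fun e => by
      rw [e, zero_smul, smul_eq_zero_iff_eq] at hr; exact hv hr)
    obtain ⟨N', hN1, hN2⟩ := hunit N hN
    rw [hN', hn', ← map_nsmul, ← map_nsmul] at hr
    refine hc (hnv c (N' * n) (fun h => (hp.dvd_mul.mp h).elim hN1 hn) ?_)
    rw [mul_smul, ← hinj hr, hN2]
  have hfixall : ∀ g : A, g • ι v = ι v → g • ι w = ι w → ∀ x, g • ι x = ι x := by
    intro g hgv hgw
    have hgL := φ.mem_L_of_prime hK g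
    have hgZ : ∀ h : A, h • ι v = ι v → h ∈ φ.L → ∀ z ∈ Zc, h * z * h⁻¹ ∈ Zc := by
      intro h hh hhL z hz
      obtain ⟨r, hr⟩ := heig z hz
      have e : (h * z * h⁻¹) • ι v = r • ι v := by
        rw [mul_smul, mul_smul, inv_smul_eq_iff.mpr hh.symm, hr, φ.L_smul hhL, hh]
      exact hne _ (φ.mem_pivot_of_eigen hZp hZcF hv heig (φ.F_normal.conj_mem z (hZcF hz) h) e) _ e
    have hgP : ∀ π ∈ Zp, g * π * g⁻¹ ∈ Zp := by
      intro π hπ
      rw [hZp] at hπ ⊢
      refine ⟨φ.F_normal.conj_mem _ hπ.1 g, Subgroup.mem_centralizer_iff.mpr fun z hz => ?_⟩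
      have h1 := hgZ g⁻¹ (inv_smul_eq_iff.mpr hgv.symm) (inv_mem hgL) z hz
      have h2 := Subgroup.mem_centralizer_iff.mp hπ.2 _ h1
      rw [inv_inv] at h2
      calc z * (g * π * g⁻¹) = g * (g⁻¹ * z * g * π) * g⁻¹ := by group
        _ = g * (π * (g⁻¹ * z * g)) * g⁻¹ := by rw [h2]
        _ = g * π * g⁻¹ * z := by group
    have hrange : ∀ x, g • ι x ∈ ι.range := by
      intro x
      have hx : x ∈ AddSubgroup.closure (Set.range fun c => op c v) := hspan ▸ AddSubgroup.mem_top x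
      induction hx using AddSubgroup.closure_induction with
      | mem y hy =>
        obtain ⟨c, rfl⟩ := hy
        obtain ⟨r, hr, μ, hμ, hμ'⟩ := hreal c
        obtain ⟨c', N, hN, hN', -⟩ := hdec _ (hgP r (hRZp hr))
        obtain ⟨μ1, hμ1, hμ2⟩ := hunit μ hμ
        refine ⟨μ1 • N • op c' v, ?_⟩
        rw [map_nsmul, map_nsmul, ← hN', mul_smul, mul_smul, inv_smul_eq_iff.mpr hgv.symm, hμ', hnsm, ← hnsm,
          ← hnsm, ← map_nsmul, ← map_nsmul, hμ2]
      | zero => rw [map_zero, smul_zero]; exact zero_mem _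
      | add a b _ _ ha hb => rw [map_add, smul_add]; exact add_mem ha hb
      | neg a _ ha => rw [map_neg, smul_neg]; exact neg_mem ha
    choose H hH using hrange
    let h : X →+ X := AddMonoidHom.mk' H fun a b => hinj (by rw [map_add, hH, hH, hH, map_add, smul_add])
    have hhdef : ∀ x, ι (h x) = g • ι x := hH
    have hbij : Function.Bijective h := Finite.injective_iff_bijective.mp fun a b e =>
      hinj (MulAction.injective g (by show g • ι a = g • ι b; rw [← hhdef, ← hhdef, e]))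
    have hid := hh h hbij (hinj (by rw [hhdef, hgv])) (hinj (by rw [hhdef, hgw])) (by
      intro c
      obtain ⟨r, hr, μ, hμ, hμ'⟩ := hreal c
      obtain ⟨c', N, hN, hN', -⟩ := hdec _ (hgP r (hRZp hr))
      obtain ⟨μ1, hμ1, hμ2⟩ := hunit μ hμ
      refine ⟨c', μ1 * N, fun hd => (hp.dvd_mul.mp hd).elim hμ1 hN, fun x => hinj ?_⟩
      rw [mul_smul, map_nsmul, map_nsmul, ← hN', hhdef, hhdef, mul_smul, mul_smul, inv_smul_smul, hμ', hnsm, ← hnsm,
        ← hnsm, ← map_nsmul, ← map_nsmul, hμ2])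
    intro x
    rw [← hhdef, hid]
  have hfix : ∀ g : A, g • ι v = ι v → g • ι w = ι w → ∀ π ∈ Zp, g • (π • ι v) = π • ι v := by
    intro g hgv hgw π hπ
    obtain ⟨c, N, -, hN', -⟩ := hdec π hπ
    rw [hN', hnsm, hfixall g hgv hgw]
  refine φ.pair_of_colours hK hsq Zc Zp (ι v) (ι w) (fun i => ι (k i)) hCZ hZcp hZp hv heig hne (hWv w) hfix
    (fun i => hWv _) (fun i e => hk0 i (hinj (e.trans (map_zero ι).symm)))
    (fun g h1 h2 i => hfixall g h1 h2 _) ?_ ?_
  · rcases hsep with h | h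
    · exact Or.inl h
    refine Or.inr fun π hπ i j hij e => ?_
    obtain ⟨c, N, hN, hN', -⟩ := hdec π hπ
    rw [hN', ← map_nsmul] at e
    exact h c N i j hij hN (hinj e)
  · intro π hπ i hi e
    obtain ⟨c, N, hN, hN', hc⟩ := hdec π hπ
    rw [hN', ← map_nsmul] at e
    exact hc (hnon c N i hi hN (hinj e))

/-- The assembly from a certificate. -/
theorem pair_of_cert [Group.IsSolvable A] (hK : Nat.card φ.K = q) (hsq : ∀ f ∈ φ.F, f ^ 2 ∈ φ.C)
    {X C : Type} [AddCommGroup X] {op : C → X → X} {c0 : C} (κ : φ.Coords q op c0)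
    (hcert : EvenPair.IsCert q op c0) : ∃ v w : V, ∀ g : A, g • v = v → g • w = w → g = 1 := by
  obtain ⟨v, w, k, h1, h2, h3, h4, h5, h6⟩ := hcert
  exact φ.pair_of_parts hK hsq κ v w k h1 h2 h3 h4 (Or.inr h5) h6

end CfsgLib.OddPair.Frame
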