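import Cfsg.Agent.EvenPair.Exceptional.CertDef
import Cfsg.Agent.EvenPair.Exceptional.Coords

/-!
Certificates for the small coordinate modules.
-/

set_option autoImplicit false
set_option maxRecDepth 100000
set_option synthInstance.maxSize 2000

namespace CfsgLib.EvenPair

open CfsgLib.OddPair.Frame (double)

/-- A certificate from two pinned elements. -/
theorem isCert_of_pin {q : ℕ} [NeZero q] {X C : Type} [AddCommGroup X] (op : C → X → X) (c0 : C)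
    (hqX : ∀ x : X, q • x = 0) (v : X) (k : Fin 3 → X) (a b : C) (ν : ℕ) (coef : X → ℕ × ℕ × ℕ × ℕ)
    (hnv : ∀ c (μ : Fin q), μ ≠ 0 → op c v = (μ : ℕ) • v → c = c0)
    (hscal : ∃ s t : Fin q, op a (op a v) = (s : ℕ) • v ∧ op b (op b v) = (t : ℕ) • v)
    (hpin : ∀ c (μ : Fin q), μ ≠ 0 → (μ : ℕ) • op c ((μ : ℕ) • op c v) = op a (op a v) →
      ∀ c' (μ' : Fin q), μ' ≠ 0 → (μ' : ℕ) • op c' ((μ' : ℕ) • op c' v) = op b (op b v) →
        (μ : ℕ) • op c v + ν • ((μ' : ℕ) • op c' v) = op a v + ν • op b v →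
        (μ : ℕ) • op c v = op a v ∧ (μ' : ℕ) • op c' v = op b v)
    (hfree : ∀ c (μ : Fin q), μ ≠ 0 → (μ : ℕ) • op c v = op a v → c = a ∧ (μ : ℕ) = 1)
    (hbasis : ∀ x : X, x = (coef x).1 • v + (coef x).2.1 • op a v + (coef x).2.2.1 • op b v +
      (coef x).2.2.2 • op a (op b v))
    (hone : ∃ c, op c v = v) (hab : ∃ c, ∃ s : Fin q, op a (op b v) = (s : ℕ) • op c v)
    (hk0 : ∀ i, k i ≠ 0)
    (hsep : ∀ c (μ : Fin q) i j, i ≠ j → μ ≠ 0 → (μ : ℕ) • op c (k i) ≠ k j)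
    (hnon : ∀ c (μ : Fin q) i, i ≠ 2 → μ ≠ 0 → (μ : ℕ) • op c (k i) = k i → c = c0) :
    IsCert q op c0 := by
  classical
  have hmod : ∀ (μ : ℕ) (x : X), μ • x = (μ % q) • x := fun μ x => by
    conv_lhs => rw [← Nat.div_add_mod μ q, add_smul, mul_smul, hqX, zero_add]
  let fin : ℕ → Fin q := fun μ => ⟨μ % q, Nat.mod_lt _ (Nat.pos_of_ne_zero (NeZero.ne q))⟩
  have hfin : ∀ μ, ¬ q ∣ μ → fin μ ≠ 0 := fun μ h e => h (Nat.dvd_of_mod_eq_zero (congrArg Fin.val e))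
  refine ⟨v, op a v + ν • op b v, k, ?_, ?_, ?_, hk0, ?_, ?_⟩
  · intro c μ hμ h
    exact hnv c (fin μ) (hfin μ hμ) (h.trans (hmod μ v))
  · refine top_unique fun x _ => ?_
    have hm : ∀ c, op c v ∈ AddSubgroup.closure (Set.range fun c => op c v) := fun c =>
      AddSubgroup.subset_closure ⟨c, rfl⟩
    obtain ⟨c1, hc1⟩ := hone
    obtain ⟨c2, s, hc2⟩ := hab
    rw [hbasis x, hc2]
    exact add_mem (add_mem (add_mem (nsmul_mem (by simpa only [hc1] using hm c1) _) (nsmul_mem (hm a) _))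
      (nsmul_mem (hm b) _)) (nsmul_mem (nsmul_mem (hm c2) _) _)
  · intro h _ hv hw hnorm
    obtain ⟨s, t, hs, ht⟩ := hscal
    obtain ⟨c, μ, hμ, hμ'⟩ := hnorm a
    obtain ⟨c', μ', hμ1, hμ1'⟩ := hnorm b
    have ea : h (op a v) = (fin μ : ℕ) • op c v := by rw [hμ', hv]; exact hmod μ _
    have eb : h (op b v) = (fin μ' : ℕ) • op c' v := by rw [hμ1', hv]; exact hmod μ' _
    have sa : (fin μ : ℕ) • op c ((fin μ : ℕ) • op c v) = op a (op a v) := by
      rw [← ea, show (fin μ : ℕ) • op c (h (op a v)) = h (op a (op a v)) from ((hμ' _).trans (hmod μ _)).symm,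
        hs, map_nsmul, hv]
    have sb : (fin μ' : ℕ) • op c' ((fin μ' : ℕ) • op c' v) = op b (op b v) := by
      rw [← eb, show (fin μ' : ℕ) • op c' (h (op b v)) = h (op b (op b v)) from ((hμ1' _).trans (hmod μ' _)).symm,
        ht, map_nsmul, hv]
    rw [map_add, map_nsmul, ea, eb] at hw
    obtain ⟨ha, hb⟩ := hpin c (fin μ) (hfin μ hμ) sa c' (fin μ') (hfin μ' hμ1) sb hw
    obtain ⟨hca, hone'⟩ := hfree c (fin μ) (hfin μ hμ) ha
    rw [ha] at ea
    rw [hb] at eb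
    have eab : h (op a (op b v)) = op a (op b v) := by
      rw [hμ', eb, hmod μ, show μ % q = 1 from hone', one_smul, hca]
    intro x
    rw [hbasis x, map_add, map_add, map_add, map_nsmul, map_nsmul, map_nsmul, map_nsmul, hv, ea, eb, eab]
  · intro c μ i j hij hμ h
    exact hsep c (fin μ) i j hij (hfin μ hμ) ((hmod μ _).symm.trans h)
  · intro c μ i hi hμ h
    exact hnon c (fin μ) i hi (hfin μ hμ) ((hmod μ _).symm.trans h)

/-- Two planes over `ZMod q` have exponent `q`. -/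
theorem nsmul_prod_eq_zero {q : ℕ} (x : (ZMod q × ZMod q) × (ZMod q × ZMod q)) : q • x = 0 := by
  ext <;> simp [nsmul_eq_mul]

theorem isCert_plus5 : IsCert 5 (double (opPlus 5)) ((false, false), false, false) := by
  refine isCert_of_pin _ _ nsmul_prod_eq_zero ((0, 1), (1, 1)) ![((0, 1), (1, 1)), ((0, 1), (1, 2)), ((0, 0), (0, 1))]
    ((true, false), false, false) ((false, false), true, true) 1
    (fun x =>
      ((4 * x.1.2 + 3 * x.2.1 + 4 * x.2.2 : ZMod 5).val, (x.1.2 + 3 * x.2.1 + x.2.2 : ZMod 5).val,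
        (3 * x.1.1 + 4 * x.1.2 + x.2.2 : ZMod 5).val, (3 * x.1.1 + x.1.2 + 4 * x.2.2 : ZMod 5).val))
    ?_ ?_ ?_ ?_ ?_ ?_ ?_ ?_ ?_ ?_ <;> decide +kernel

theorem isCert_free3 : IsCert 3 (diagOp (opPlus 3)) (false, false) := by
  refine isCert_of_pin _ _ nsmul_prod_eq_zero ((1, 0), (0, 1)) ![((1, 0), (0, 1)), ((0, 1), (1, 1)), ((0, 0), (0, 1))]
    (true, false) (true, true) 1
    (fun x =>
      ((2 * x.1.1 + 2 * x.2.2 : ZMod 3).val, (2 * x.1.1 + x.2.2 : ZMod 3).val,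
        (x.1.2 + 2 * x.2.1 : ZMod 3).val,
        (2 * x.1.2 + 2 * x.2.1 : ZMod 3).val))
    ?_ ?_ ?_ ?_ ?_ ?_ ?_ ?_ ?_ ?_ <;> decide +kernel

theorem isCert_free5 : IsCert 5 (diagOp (opPlus 5)) (false, false) := by
  refine isCert_of_pin _ _ nsmul_prod_eq_zero ((1, 0), (0, 1)) ![((1, 0), (0, 1)), ((0, 1), (1, 1)), ((0, 0), (0, 1))]
    (true, false) (false, true) 2
    (fun x =>
      ((3 * x.1.1 + 3 * x.2.2 : ZMod 5).val, (3 * x.1.1 + 2 * x.2.2 : ZMod 5).val,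
        (3 * x.1.2 + 3 * x.2.1 : ZMod 5).val, (2 * x.1.2 + 3 * x.2.1 : ZMod 5).val))
    ?_ ?_ ?_ ?_ ?_ ?_ ?_ ?_ ?_ ?_ <;> decide +kernel

end CfsgLib.EvenPair
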