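import Cfsg.Agent.EvenPair.Exceptional.Coords
import Cfsg.Agent.EvenPair.Exceptional.CertDef

/-!
No frame over three elements has an anisotropic six-dimensional quotient `F / C` when the group
order is prime to three.
-/

set_option autoImplicit false
set_option linter.style.haveILetI false
set_option maxRecDepth 100000
set_option synthInstance.maxSize 2000

open scoped commutatorElement

namespace CfsgLib.EvenPair

open CfsgLib.OddPair.Frame (double)

/-- The maps on the eight-dimensional module. -/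
abbrev opSix := double (double opMinus)

/-- A vector without eigen relations. -/
def vecSix : ((ZMod 3 × ZMod 3) × ZMod 3 × ZMod 3) × (ZMod 3 × ZMod 3) × ZMod 3 × ZMod 3 :=
  (((0, 0), (0, 1)), ((0, 1), (0, 1)))

/-- A basis vector. -/
def baseSix : ((ZMod 3 × ZMod 3) × ZMod 3 × ZMod 3) × (ZMod 3 × ZMod 3) × ZMod 3 × ZMod 3 :=
  (((1, 0), (0, 0)), ((0, 0), (0, 0)))

theorem opSix_inj : ∀ c c' (μ : Fin 3), μ ≠ 0 → opSix c vecSix = (μ : ℕ) • opSix c' vecSix → c = c' := by
  decide +kernel

theorem opSix_zero : opSix (((false, false), false, false), false, false) vecSix = vecSix := by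
  decide +kernel

theorem opSix_sq : ∀ c, opSix c (opSix c baseSix) = baseSix ∨ opSix c (opSix c baseSix) = 2 • baseSix := by
  decide +kernel

theorem opSix_card : (Finset.univ.filter fun c => opSix c (opSix c baseSix) = baseSix).card = 28 := by
  decide +kernel

theorem vecSix_ne : vecSix ≠ 0 ∧ baseSix ≠ 0 ∧ (2 : ℕ) • baseSix ≠ baseSix := by decide +kernel

end CfsgLib.EvenPair

namespace CfsgLib.OddPair.Frame

variable {A V : Type} [Group A] [Finite A] [AddCommGroup V] [Finite V] [Nontrivial V] [DistribMulAction A V]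
variable (φ : Frame A V) [FaithfulSMul A V]

/-- A subgroup of `F` meeting its centraliser in `C` has square index over `C`. -/
theorem exists_sq_of_radical [Group.IsSolvable A] (W : Subgroup A) (hCW : φ.C ≤ W) (hWF : W ≤ φ.F)
    (hrad : W ⊓ Subgroup.centralizer (W : Set A) = φ.C) : ∃ e : ℕ, φ.C.relIndex W = e ^ 2 := by
  obtain ⟨E, ⟨hCE, hEW, hEc⟩, hmax⟩ := Set.Finite.exists_maximalFor id
    {M : Subgroup A | φ.C ≤ M ∧ M ≤ W ∧ ∀ x ∈ M, ∀ y ∈ M, x * y = y * x} (Set.toFinite _)
    ⟨φ.C, le_rfl, hCW, φ.C_comm⟩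
  refine ⟨φ.C.relIndex E, ?_⟩
  have hEcent : ∀ f ∈ W, (∀ x ∈ E, x * f = f * x) → f ∈ E := by
    intro f hf hfE
    have hcl : Subgroup.closure ((E : Set A) ∪ {f}) ≤ W :=
      (Subgroup.closure_le _).mpr (Set.union_subset hEW (Set.singleton_subset_iff.mpr hf))
    have h := hmax (j := Subgroup.closure ((E : Set A) ∪ {f}))
      ⟨hCE.trans fun x hx => Subgroup.subset_closure (Or.inl hx), hcl, fun x hx y hy => by
        have hcomm := Subgroup.isMulCommutative_closure (k := (E : Set A) ∪ {f}) (by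
          rintro a (ha | ha) b (hb | hb)
          · exact hEc a ha b hb
          · rw [Set.mem_singleton_iff.mp hb]; exact hfE a ha
          · rw [Set.mem_singleton_iff.mp ha]; exact (hfE b hb).symm
          · rw [Set.mem_singleton_iff.mp ha, Set.mem_singleton_iff.mp hb])
        exact congrArg Subtype.val (hcomm.is_comm.comm (⟨x, hx⟩ : Subgroup.closure _) ⟨y, hy⟩)⟩
      (fun x hx => Subgroup.subset_closure (Or.inl hx))
    exact h (Subgroup.subset_closure (Or.inr rfl))
  have h1 := φ.relIndex_centralizer_eq (M := E) (N := W) ((hEW.trans hWF).trans φ.F_le) (hWF.trans φ.F_le)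
    fun m hm n hn => φ.comm_mem m (hWF (hEW hm)) n (hWF hn)
  have h2 : Subgroup.centralizer (E : Set A) ⊓ W = E := le_antisymm
    (fun f hf => hEcent f hf.2 fun x hx => Subgroup.mem_centralizer_iff.mp hf.1 x hx)
    (le_inf (fun x hx => Subgroup.mem_centralizer_iff.mpr fun y hy => hEc y hy x hx) hEW)
  have h3 : Subgroup.centralizer (W : Set A) ⊓ E = φ.C := by
    refine le_antisymm ?_ (le_inf (hrad.ge.trans inf_le_right) hCE)
    exact fun x hx => hrad.le ⟨hEW hx.2, hx.1⟩
  rw [← Subgroup.inf_relIndex_right (Subgroup.centralizer (W : Set A)) E, h3,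
    ← Subgroup.inf_relIndex_right (Subgroup.centralizer (E : Set A)) W, h2] at h1
  rw [← Subgroup.relIndex_mul_relIndex _ _ _ hCE hEW, ← h1, sq]

/-- No anisotropic quotient of order sixty-four. -/
theorem no_minus_six [Group.IsSolvable A] [Fact (Nat.Prime 3)] (hK : Nat.card φ.K = 3)
    (hcop : (Nat.card A).Coprime 3) (hsq : ∀ f ∈ φ.F, f ^ 2 ∈ φ.C)
    (κ : φ.Coords 3 EvenPair.opSix (((false, false), false, false), false, false)) (hsmall : κ.Zc ≤ φ.C) :
    False := by
  classical
  obtain ⟨Zc, Zp, R, v0, ι, hCZ, hZcp, hZp, hv0, heig, hCR, hRZp, hdisj, hfac, hinj, hW, hact, hreal⟩ := κ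
  dsimp only at hsmall
  have hZpF : φ.F ≤ Zp := by
    rw [hZp]
    exact le_inf le_rfl fun f hf => Subgroup.mem_centralizer_iff.mpr fun z hz =>
      φ.comm_C_L (hsmall hz) (φ.F_le hf)
  have hFR : ∀ f ∈ φ.F, f ∈ R := fun f hf => by
    obtain ⟨z, hz, r, hr, rfl⟩ := hfac f (hZpF hf)
    exact mul_mem (hCR (hsmall hz)) hr
  have hRF : R ≤ φ.F := hRZp.trans (hZp.le.trans inf_le_left)
  have hqX : ∀ x : ((ZMod 3 × ZMod 3) × ZMod 3 × ZMod 3) × (ZMod 3 × ZMod 3) × ZMod 3 × ZMod 3, 3 • x = 0 :=
    fun x => hinj (by rw [map_nsmul, φ.prime_nsmul hK, map_zero])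
  have hnsm : ∀ (g : A) (n : ℕ) (x : V), g • (n • x) = n • (g • x) := fun g n x =>
    map_nsmul (DistribMulAction.toAddMonoidHom V g) n x
  have hsq3 : ∀ μ : ℕ, ¬ 3 ∣ μ → ∀ x : ((ZMod 3 × ZMod 3) × ZMod 3 × ZMod 3) × (ZMod 3 × ZMod 3) × ZMod 3 × ZMod 3,
      μ • μ • x = x := fun μ hμ x => by
    have h : (μ * μ) % 3 = 1 := by
      rw [Nat.mul_mod]
      rcases (show μ % 3 = 1 ∨ μ % 3 = 2 by omega) with h | h <;> rw [h]
    rw [← mul_smul, ← Nat.div_add_mod (μ * μ) 3, h, add_smul, one_smul, mul_smul, hqX, zero_add]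
  choose rp hrpR μ hμ hrp using hreal
  let q := QuotientGroup.mk' φ.C
  have hq := QuotientGroup.mk'_surjective φ.C
  have hq1 : ∀ x, q x = 1 ↔ x ∈ φ.C := fun x => QuotientGroup.eq_one_iff x
  let U := φ.F.map q
  haveI hUn : U.Normal := Subgroup.Normal.map inferInstance q hq
  let cls : _ → U := fun c => ⟨q (rp c), rp c, hRF (hrpR c), rfl⟩
  have hclsinj : Function.Injective cls := by
    intro c c' h
    have h' : (rp c')⁻¹ * rp c ∈ φ.C := by
      refine (hq1 _).mp ?_
      rw [map_mul, map_inv, show q (rp c) = q (rp c') from congrArg Subtype.val h, inv_mul_cancel]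
    obtain ⟨n, hn, hn'⟩ := φ.exists_nat_smul hK (φ.scal_ne_zero _ h')
    have e : μ c • ι (EvenPair.opSix c EvenPair.vecSix) = n • μ c' • ι (EvenPair.opSix c' EvenPair.vecSix) := by
      rw [← hrp, ← hrp, ← hnsm, ← hn', φ.scal_smul, ← mul_smul, mul_inv_cancel_left]
    rw [← map_nsmul, ← map_nsmul, ← map_nsmul] at e
    have e' := hinj e
    have h3 : EvenPair.opSix c EvenPair.vecSix = (μ c * (n * μ c')) • EvenPair.opSix c' EvenPair.vecSix := by
      rw [← hsq3 (μ c) (hμ c) (EvenPair.opSix c EvenPair.vecSix), e', ← mul_smul, ← mul_smul, mul_assoc]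
    set N := μ c * (n * μ c') with hN
    have hN0 : ¬ 3 ∣ N := fun h => by
      rcases (Nat.prime_three.dvd_mul).mp h with h | h
      · exact hμ c h
      rcases (Nat.prime_three.dvd_mul).mp h with h | h
      · exact hn h
      · exact hμ c' h
    rw [← Nat.div_add_mod N 3, add_smul, mul_smul, hqX, zero_add] at h3
    exact EvenPair.opSix_inj c c' ⟨N % 3, Nat.mod_lt _ (by norm_num)⟩
      (fun e0 => hN0 (Nat.dvd_of_mod_eq_zero (congrArg Fin.val e0))) h3
  have hclssurj : Function.Surjective cls := by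
    rintro ⟨_, f, hf, rfl⟩
    obtain ⟨c, m, hm, hm', -⟩ := hact f (hFR f hf)
    refine ⟨c, Subtype.ext ?_⟩
    show q (rp c) = q f
    obtain ⟨c', m', hm1, hm1', hc'⟩ := hact ((rp c)⁻¹ * f) (mul_mem (inv_mem (hrpR c)) (hFR f hf))
    have h1 : (rp c)⁻¹ * f ∈ φ.C := hc' (by
      have e : rp c • (((rp c)⁻¹ * f) • ι EvenPair.vecSix) = f • ι EvenPair.vecSix := by
        rw [← mul_smul, mul_inv_cancel_left]
      have e2 : rp c • ((μ c * m) • ι EvenPair.vecSix) = f • ι EvenPair.vecSix := by
        rw [hnsm, hrp, hm', ← map_nsmul, ← map_nsmul, ← map_nsmul, mul_comm, mul_smul, hsq3 _ (hμ c)]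
      have e3 := MulAction.injective (rp c) (e.trans e2.symm)
      rw [hm1', ← map_nsmul, ← map_nsmul] at e3
      have e4 := hinj e3
      have h3 : EvenPair.opSix c' EvenPair.vecSix =
          (m' * (μ c * m)) • EvenPair.opSix (((false, false), false, false), false, false) EvenPair.vecSix := by
        rw [EvenPair.opSix_zero, mul_smul, ← e4, hsq3 _ hm1]
      set N := m' * (μ c * m)
      have hN0 : ¬ 3 ∣ N := fun h => by
        rcases (Nat.prime_three.dvd_mul).mp h with h | h
        · exact hm1 h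
        rcases (Nat.prime_three.dvd_mul).mp h with h | h
        · exact hμ c h
        · exact hm h
      rw [← Nat.div_add_mod N 3, add_smul, mul_smul, hqX, zero_add] at h3
      exact EvenPair.opSix_inj c' _ ⟨N % 3, Nat.mod_lt _ (by norm_num)⟩
        (fun e0 => hN0 (Nat.dvd_of_mod_eq_zero (congrArg Fin.val e0))) h3)
    exact (inv_mul_eq_one.mp (by rw [← map_inv, ← map_mul]; exact (hq1 _).mpr h1))
  have hcardU : Nat.card U = 64 := by
    rw [← Nat.card_eq_of_bijective cls ⟨hclsinj, hclssurj⟩, Nat.card_eq_fintype_card]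
    rfl
  haveI : IsMulCommutative U := ⟨⟨fun x y => by
    obtain ⟨_, f, hf, rfl⟩ := x
    obtain ⟨_, g, hg, rfl⟩ := y
    refine Subtype.ext (commutatorElement_eq_one_iff_mul_comm.mp ?_)
    rw [← map_commutatorElement]
    exact (QuotientGroup.eq_one_iff _).mpr (φ.comm_mem f hf g hg)⟩⟩
  let θ : A →* MulAut U := (MulAut.conjNormal : A ⧸ φ.C →* MulAut U).comp q
  have hθ : ∀ (a : A) (u : U), ((θ a u : U) : A ⧸ φ.C) = q a * u * (q a)⁻¹ := fun a u =>
    MulAut.conjNormal_apply _ u
  -- no non-trivial fixed point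
  have hnofix : ∀ u : U, (∀ a, θ a u = u) → u = 1 := by
    intro u hu
    let M : Subgroup A := (Subgroup.zpowers (u : A ⧸ φ.C)).comap q
    haveI : M.Normal := ⟨fun x hx a => by
      obtain ⟨k, hk⟩ := Subgroup.mem_zpowers_iff.mp (show q x ∈ _ from hx)
      show q (a * x * a⁻¹) ∈ Subgroup.zpowers (u : A ⧸ φ.C)
      rw [map_mul, map_mul, map_inv, ← hk, ← conj_zpow, ← hθ, hu a]
      exact Subgroup.zpow_mem _ (Subgroup.mem_zpowers _) k⟩
    obtain ⟨_, f, hf, hfu⟩ := u
    have hMF : ∀ x ∈ M, ∃ k : ℤ, ∃ c ∈ φ.C, x = f ^ k * c := fun x hx => by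
      obtain ⟨k, hk⟩ := Subgroup.mem_zpowers_iff.mp (show q x ∈ _ from hx)
      refine ⟨k, (f ^ k)⁻¹ * x, (hq1 _).mp ?_, by rw [mul_inv_cancel_left]⟩
      rw [map_mul, map_inv, map_zpow, hfu, hk, inv_mul_cancel]
    have hMC := φ.C_max M inferInstance (fun x hx y hy => by
        obtain ⟨k, c, hc, rfl⟩ := hMF x hx
        obtain ⟨k', c', hc', rfl⟩ := hMF y hy
        have h1 := φ.comm_C_L hc (φ.F_le (φ.F.zpow_mem hf k'))
        have h2 := φ.comm_C_L hc' (φ.F_le (φ.F.zpow_mem hf k))
        calc f ^ k * c * (f ^ k' * c') = f ^ k * (c * f ^ k') * c' := by group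
          _ = f ^ k * f ^ k' * (c * c') := by rw [h1]; group
          _ = f ^ k' * f ^ k * (c' * c) := by rw [φ.C_comm c hc c' hc', ← zpow_add, ← zpow_add, add_comm]
          _ = f ^ k' * (f ^ k * c') * c := by group
          _ = f ^ k' * c' * (f ^ k * c) := by rw [← h2]; group)
      (fun c hc => by show q c ∈ Subgroup.zpowers _; rw [(hq1 c).mpr hc]; exact one_mem _)
    refine Subtype.ext ?_
    refine hfu.symm.trans ((hq1 f).mpr (hMC.le ?_))
    show q f ∈ Subgroup.zpowers _
    exact Subgroup.mem_zpowers_iff.mpr ⟨1, by rw [zpow_one]; exact hfu.symm⟩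
  set H := θ.range
  haveI : Group.IsSolvable H := Group.isSolvable_of_surjective θ.rangeRestrict_surjective
  have hH3 : (Nat.card H).Coprime 3 := hcop.coprime_dvd_left (Subgroup.card_range_dvd θ)
  have hHne : Nontrivial H := by
    by_contra hnt
    rw [not_nontrivial_iff_subsingleton] at hnt
    haveI : Subsingleton U := ⟨fun u u' => by
      rw [hnofix u fun a => congrArg (fun h : H => (h : MulAut U) u) (Subsingleton.elim (⟨θ a, a, rfl⟩ : H) 1),
        hnofix u' fun a => congrArg (fun h : H => (h : MulAut U) u') (Subsingleton.elim (⟨θ a, a, rfl⟩ : H) 1)]⟩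
    have := Nat.card_of_subsingleton (1 : U)
    omega
  obtain ⟨N, ⟨hNn, hN1⟩, hNmin⟩ := Set.Finite.exists_minimalFor id
    {M : Subgroup H | M.Normal ∧ M ≠ ⊥} (Set.toFinite _) ⟨⊤, inferInstance, top_ne_bot⟩
  haveI := hNn
  have hNc := commutative_of_minimal N hN1 fun M hM hle => by
    by_cases h : M = ⊥
    · exact Or.inl h
    · exact Or.inr (le_antisymm hle (hNmin ⟨hM, h⟩ hle))
  haveI : Nontrivial N := (Subgroup.nontrivial_iff_ne_bot N).mpr hN1
  obtain ⟨r, hr, hrN⟩ := Nat.exists_prime_and_dvd (n := Nat.card N) (Nat.ne_of_gt Finite.one_lt_card)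
  haveI := Fact.mk hr
  have hr3 : r ≠ 3 := fun e => by
    subst e
    exact Nat.prime_three.not_dvd_one
      (hH3.gcd_eq_one ▸ Nat.dvd_gcd (hrN.trans (Subgroup.card_subgroup_dvd_card N)) dvd_rfl)
  -- its elements of exponent `r`
  let P : Subgroup H :=
    { carrier := {x | x ∈ N ∧ x ^ r = 1}
      one_mem' := ⟨one_mem _, one_pow _⟩
      mul_mem' := fun {x y} hx hy => ⟨mul_mem hx.1 hy.1, by
        rw [(show Commute x y from hNc x hx.1 y hy.1).mul_pow, hx.2, hy.2, one_mul]⟩
      inv_mem' := fun {x} hx => ⟨inv_mem hx.1, by rw [inv_pow, hx.2, inv_one]⟩ }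
  haveI hPn : P.Normal := ⟨fun x hx h => ⟨hNn.conj_mem x hx.1 h, by rw [conj_pow, hx.2, mul_one, mul_inv_cancel]⟩⟩
  have hPr : IsPGroup r P := fun x => ⟨1, Subtype.ext (by rw [pow_one, SubmonoidClass.coe_pow]; exact x.2.2)⟩
  obtain ⟨x0, hx0⟩ := exists_prime_orderOf_dvd_card' r hrN
  have hP1 : (x0 : H) ∈ P := ⟨x0.2, by
    rw [← SubmonoidClass.coe_pow, ← hx0, pow_orderOf_eq_one, OneMemClass.coe_one]⟩
  let W : Subgroup U :=
    { carrier := {u | ∀ h ∈ P, (h : MulAut U) u = u}
      one_mem' := fun h _ => map_one _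
      mul_mem' := fun {a b} ha hb h hh => by rw [map_mul, ha h hh, hb h hh]
      inv_mem' := fun {a} ha h hh => by rw [map_inv, ha h hh] }
  have hWinv : ∀ a, ∀ u ∈ W, θ a u ∈ W := by
    intro a u hu h hh
    have h1 := hu _ (hPn.conj_mem h hh ⟨θ a⁻¹, a⁻¹, rfl⟩)
    simp only [Subgroup.coe_mul, InvMemClass.coe_inv, MulAut.mul_apply, map_inv, inv_inv] at h1
    have h2 := congrArg (fun x => θ a x) h1
    simpa using h2
  let Wf : Subgroup A := (W.map U.subtype).comap q
  haveI hWfn : Wf.Normal := by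
    refine Subgroup.Normal.comap ⟨?_⟩ q
    rintro _ ⟨w, hw, rfl⟩ b
    obtain ⟨a, rfl⟩ := hq b
    exact ⟨θ a w, hWinv a w hw, hθ a w⟩
  have hCW : φ.C ≤ Wf := fun c hc => by
    show q c ∈ W.map U.subtype
    rw [(hq1 c).mpr hc]
    exact one_mem _
  have hWF : Wf ≤ φ.F := by
    intro x hx
    obtain ⟨f, hf, e⟩ := Subgroup.map_subtype_le W hx
    have h1 : f⁻¹ * x ∈ φ.C := QuotientGroup.eq.mp e
    have h2 := mul_mem hf (φ.C_le h1)
    rwa [mul_inv_cancel_left] at h2
  obtain ⟨W'', hW'n, hCW', hW'F, hinf, hsup⟩ := φ.exists_complement Wf hCW hWF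
  let W' : Subgroup U := (W''.map q).subgroupOf U
  have hW'inv : ∀ a, ∀ u ∈ W', θ a u ∈ W' := by
    intro a u hu
    rw [Subgroup.mem_subgroupOf] at hu ⊢
    rw [hθ]
    exact (Subgroup.Normal.map hW'n q hq).conj_mem _ hu (q a)
  have hdisj' : Disjoint W W' := by
    rw [disjoint_iff_inf_le]
    rintro x ⟨hxW, hxW'⟩
    obtain ⟨y, hy, e⟩ := Subgroup.mem_subgroupOf.mp hxW'
    have hyWf : y ∈ Wf := ⟨x, hxW, e.symm⟩
    have hyC : y ∈ φ.C := hinf ▸ ⟨hyWf, hy⟩
    exact Subgroup.mem_bot.mpr (Subtype.ext (e.symm.trans ((hq1 y).mpr hyC)))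
  have hsup' : W ⊔ W' = ⊤ := by
    rw [eq_top_iff]
    rintro ⟨x, f, hf, rfl⟩ -
    haveI := hW'n
    rw [← hsup] at hf
    obtain ⟨y, hy, z, hz, rfl⟩ := Subgroup.mem_sup_of_normal_left.mp hf
    have hyU : q y ∈ U := ⟨y, hWF hy, rfl⟩
    have hzU : q z ∈ U := ⟨z, hW'F hz, rfl⟩
    have hyW : (⟨q y, hyU⟩ : U) ∈ W := by
      obtain ⟨w, hw, e⟩ := (show q y ∈ W.map U.subtype from hy)
      rwa [← show w = ⟨q y, hyU⟩ from Subtype.ext e]
    have key := Subgroup.mul_mem_sup hyW (show (⟨q z, hzU⟩ : U) ∈ W' from ⟨z, hz, rfl⟩)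
    convert key using 1
    exact Subtype.ext (map_mul q y z)
  have hprod : Nat.card W * Nat.card W' = 64 := by
    rw [← hcardU]
    refine (Subgroup.isComplement'_of_disjoint_and_mul_eq_univ hdisj' ?_).card_mul
    haveI : W.Normal := ⟨fun x hx g => by
      rw [(IsMulCommutative.is_comm.comm g x : g * x = x * g), mul_inv_cancel_right]; exact hx⟩
    rw [← Subgroup.normal_mul, hsup', Subgroup.coe_top]
  letI : MulAction P W' :=
    { smul := fun h u => ⟨((h : H) : MulAut U) u, by
        obtain ⟨a, ha⟩ := (h : H).2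
        rw [← ha]
        exact hW'inv a u u.2⟩
      one_smul := fun u => Subtype.ext rfl
      mul_smul := fun g h u => Subtype.ext rfl }
  have hmod : r ∣ Nat.card W' - 1 := by
    have h := hPr.card_modEq_card_fixedPoints W'
    haveI : Subsingleton (MulAction.fixedPoints P W') := ⟨fun u u' => by
      have key : ∀ u : MulAction.fixedPoints P W', ((u : W') : U) = 1 := fun u => by
        have h1 : ((u : W') : U) ∈ W := fun h hh => congrArg Subtype.val (u.2 ⟨h, hh⟩)
        exact Subgroup.mem_bot.mp (hdisj'.le_bot ⟨h1, (u : W').2⟩)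
      exact Subtype.ext (Subtype.ext ((key u).trans (key u').symm))⟩
    have hf1 : Nat.card (MulAction.fixedPoints P W') = 1 :=
      Nat.card_of_subsingleton (⟨1, fun g => Subtype.ext (map_one ((g : H) : MulAut U))⟩ : MulAction.fixedPoints P W')
    rw [hf1] at h
    exact (Nat.modEq_iff_dvd' Nat.card_pos).mp h.symm
  obtain ⟨e, he⟩ : ∃ e : ℕ, Nat.card W = e ^ 2 := by
    obtain ⟨e, he⟩ := φ.exists_sq_of_radical Wf hCW hWF (φ.C_max _ inferInstance
      (fun x hx y hy => Subgroup.mem_centralizer_iff.mp hy.2 x hx.1)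
      (le_inf hCW fun c hc => Subgroup.mem_centralizer_iff.mpr fun w hw => (φ.comm_C_L hc (φ.F_le (hWF hw))).symm))
    refine ⟨e, ?_⟩
    rw [← he, ← Subgroup.card_map_of_injective U.subtype_injective (K := W),
      show W.map U.subtype = Wf.map q from (Subgroup.map_comap_eq_self_of_surjective hq _).symm,
      ← Subgroup.relIndex_ker, QuotientGroup.ker_mk']
  have hW64 : Nat.card W ≠ 64 := fun h => by
    have hWtop : W = ⊤ := Subgroup.eq_top_of_card_eq W (h.trans hcardU.symm)
    have : (x0 : H) = 1 := Subtype.ext (MulEquiv.ext fun u => (hWtop.ge (Subgroup.mem_top u) : u ∈ W) _ hP1)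
    have h1 : orderOf x0 = 1 := orderOf_eq_one_iff.mpr (Subtype.ext this)
    rw [hx0] at h1
    exact hr.ne_one h1
  have hW2 : Nat.card W ∣ 64 := ⟨_, hprod.symm⟩
  have he8 : e ≤ 8 := by
    have := Nat.le_of_dvd (by norm_num) hW2
    rw [he] at this
    nlinarith
  rw [he] at hW64 hW2 hprod
  interval_cases e <;> (try norm_num at hW2) <;> (try norm_num at hW64) <;> (try norm_num at hprod)
  · -- no fixed vector: the singular elements
    have hW'64 : Nat.card W' = 64 := hprod
    have hW1 : W = ⊥ := Subgroup.eq_bot_of_card_eq W (he.trans (by norm_num))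
    let Sing : U → Prop := fun u => ∀ f, ∀ hf : f ∈ φ.F, q f = (u : A ⧸ φ.C) →
      ∃ t : φ.K, t ≠ 0 ∧ φ.scal (f ^ 2) (hsq f hf) * t ^ 2 = 1
    have hSinv : ∀ a u, Sing u → Sing (θ a u) := by
      intro a u hu f hf hfu
      rw [hθ] at hfu
      have hf' : a⁻¹ * f * a ∈ φ.F := by
        have := φ.F_normal.conj_mem f hf a⁻¹
        rwa [inv_inv] at this
      obtain ⟨t, ht, he'⟩ := hu _ hf' (by rw [map_mul, map_mul, map_inv, hfu]; group)
      refine ⟨t, ht, ?_⟩
      rw [← he', ← φ.conjK_of_mem (φ.mem_L_of_prime hK a) (φ.scal ((a⁻¹ * f * a) ^ 2) (hsq _ hf')), ← φ.scal_conj]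
      congr 1
      refine φ.scal_congr ?_ _ _
      rw [← conj_pow]
      group
    letI : MulAction P {u : U // Sing u} :=
      { smul := fun h u => ⟨((h : H) : MulAut U) u, by
          obtain ⟨a, ha⟩ := (h : H).2
          rw [← ha]
          exact hSinv a u u.2⟩
        one_smul := fun u => Subtype.ext rfl
        mul_smul := fun g h u => Subtype.ext rfl }
    have hone : ∀ t : φ.K, t ≠ 0 → t ^ 2 = 1 := by
      intro t ht
      haveI := Fintype.ofFinite φ.K
      have h := FiniteField.pow_card_sub_one_eq_one t ht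
      rwa [← Nat.card_eq_fintype_card, hK] at h
    have hsing : ∀ c, Sing (cls c) ↔ EvenPair.opSix c (EvenPair.opSix c EvenPair.baseSix) = EvenPair.baseSix := by
      intro c
      have hr2 : φ.scal (rp c ^ 2) (hsq _ (hRF (hrpR c))) • ι EvenPair.baseSix =
          ι (EvenPair.opSix c (EvenPair.opSix c EvenPair.baseSix)) := by
        rw [φ.scal_smul, sq, mul_smul, hrp, hnsm, hrp, ← map_nsmul, ← map_nsmul, hsq3 _ (hμ c)]
      constructor
      · intro h
        obtain ⟨t, ht, e⟩ := h (rp c) (hRF (hrpR c)) rfl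
        rw [hone t ht, mul_one] at e
        rw [e, one_smul] at hr2
        exact (hinj hr2).symm
      · intro h f hf hfc
        rw [h] at hr2
        have e1 : φ.scal (rp c ^ 2) (hsq _ (hRF (hrpR c))) = 1 :=
          φ.smul_left_cancel' (fun e => EvenPair.vecSix_ne.2.1 (hinj (e.trans (map_zero ι).symm)))
            (hr2.trans (one_smul _ _).symm)
        refine ⟨1, one_ne_zero, ?_⟩
        rw [one_pow, mul_one]
        have hd : (rp c)⁻¹ * f ∈ φ.C := (hq1 _).mp (by rw [map_mul, map_inv, hfc]; exact inv_mul_cancel _)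
        have hf2 : f ^ 2 = rp c ^ 2 * ((rp c)⁻¹ * f) ^ 2 := by
          rw [← (show Commute (rp c) ((rp c)⁻¹ * f) from (φ.comm_C_L hd (φ.F_le (hRF (hrpR c)))).symm).mul_pow,
            mul_inv_cancel_left]
        rw [φ.scal_congr hf2 _ (mul_mem (hsq _ (hRF (hrpR c))) (pow_mem hd 2)),
          φ.scal_mul _ _ (hsq _ (hRF (hrpR c))) (pow_mem hd 2), e1, φ.scal_pow, hone _ (φ.scal_ne_zero _ hd), one_mul]
        exact hd
    have hcard28 : Nat.card {u : U // Sing u} = 28 := by
      rw [← Nat.card_congr ((Equiv.subtypeEquiv (Equiv.ofBijective cls ⟨hclsinj, hclssurj⟩)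
        (p := fun c => EvenPair.opSix c (EvenPair.opSix c EvenPair.baseSix) = EvenPair.baseSix)
        (q := Sing) fun c => (hsing c).symm)), Nat.card_eq_fintype_card, Fintype.card_subtype]
      exact EvenPair.opSix_card
    have h := hPr.card_modEq_card_fixedPoints {u : U // Sing u}
    have hS1 : Sing 1 := by
      intro f hf hf1
      refine ⟨1, one_ne_zero, ?_⟩
      have hfC : f ∈ φ.C := (hq1 f).mp hf1
      rw [one_pow, mul_one, φ.scal_congr rfl _ (φ.C.pow_mem hfC 2), φ.scal_pow, hone _ (φ.scal_ne_zero _ hfC)]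
      exact hfC
    haveI : Subsingleton (MulAction.fixedPoints P {u : U // Sing u}) := ⟨fun u u' => by
      have key : ∀ u : MulAction.fixedPoints P {u : U // Sing u}, ((u : {u : U // Sing u}) : U) = 1 := fun u => by
        have h1 : ((u : {u : U // Sing u}) : U) ∈ W := fun h hh => congrArg Subtype.val (u.2 ⟨h, hh⟩)
        exact Subgroup.mem_bot.mp (hW1.le h1)
      exact Subtype.ext (Subtype.ext ((key u).trans (key u').symm))⟩
    have hf1 : Nat.card (MulAction.fixedPoints P {u : U // Sing u}) = 1 :=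
      Nat.card_of_subsingleton (⟨⟨1, hS1⟩, fun g => Subtype.ext (map_one ((g : H) : MulAut U))⟩ :
        MulAction.fixedPoints P {u : U // Sing u})
    rw [hcard28, hf1] at h
    have h27 : r ∣ 27 := (Nat.modEq_iff_dvd' (by norm_num)).mp h.symm
    exact hr3 ((Nat.prime_dvd_prime_iff_eq hr Nat.prime_three).mp (hr.dvd_of_dvd_pow (n := 3) (by norm_num; exact h27)))
  · -- fixed plane: three points
    have hW'16 : Nat.card W' = 16 := by omega
    have h4 : Nat.card W = 4 := he.trans (by norm_num)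
    letI : MulAction H W :=
      { smul := fun h u => ⟨(h : MulAut U) u, by
          obtain ⟨a, ha⟩ := h.2
          rw [← ha]
          exact hWinv a u u.2⟩
        one_smul := fun u => Subtype.ext rfl
        mul_smul := fun g h u => Subtype.ext rfl }
    obtain ⟨u, hu⟩ : ∃ u : W, u ≠ 1 := by
      haveI : Nontrivial W := Finite.one_lt_card_iff_nontrivial.mp (by omega)
      exact exists_ne 1
    have hfix1 : ∀ h : H, h • (1 : W) = 1 := fun h => Subtype.ext (map_one (h : MulAut U))
    have hnf : ∀ w : W, w ≠ 1 → ∃ h : H, h • w ≠ w := fun w hw => by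
      by_contra hno
      push Not at hno
      exact hw (Subtype.ext (hnofix w fun a => congrArg Subtype.val (hno ⟨θ a, a, rfl⟩)))
    have h3 : 3 ∣ Nat.card H ∨ False := by
      left
      obtain ⟨h1, hh1⟩ := hnf u hu
      haveI := Fintype.ofFinite W
      set u2 := h1 • u with hu2
      have hu21 : u2 ≠ 1 := fun e => hu (MulAction.injective h1 (e.trans (hfix1 h1).symm))
      obtain ⟨u3, hu31, hu3u, hu32⟩ : ∃ u3 : W, u3 ≠ 1 ∧ u3 ≠ u ∧ u3 ≠ u2 := by
        by_contra hno
        push Not at hno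
        have : (Finset.univ : Finset W) ⊆ {1, u, u2} := fun x _ => by
          simp only [Finset.mem_insert, Finset.mem_singleton]
          by_cases a : x = 1
          · exact Or.inl a
          by_cases b : x = u
          · exact Or.inr (Or.inl b)
          · exact Or.inr (Or.inr (hno x a b))
        have := (Finset.card_le_card this).trans Finset.card_le_three
        rw [Finset.card_univ, ← Nat.card_eq_fintype_card] at this
        omega
      have hall : ∀ x : W, x = 1 ∨ x = u ∨ x = u2 ∨ x = u3 := by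
        intro x
        by_contra hno
        push Not at hno
        have h5 : ({1, u, u2, u3, x} : Finset W).card = 5 := by
          rw [Finset.card_insert_of_notMem, Finset.card_insert_of_notMem, Finset.card_insert_of_notMem,
            Finset.card_insert_of_notMem, Finset.card_singleton] <;>
            simp only [Finset.mem_insert, Finset.mem_singleton, not_or]
          · exact hno.2.2.2.symm
          · exact ⟨hu32.symm, hno.2.2.1.symm⟩
          · exact ⟨Ne.symm hh1, hu3u.symm, hno.2.1.symm⟩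
          · exact ⟨hu.symm, hu21.symm, hu31.symm, hno.1.symm⟩
        have := Finset.card_le_univ ({1, u, u2, u3, x} : Finset W)
        rw [h5, ← Nat.card_eq_fintype_card] at this
        omega
      have horb : MulAction.orbit H u = ({u, u2, u3} : Set W) := by
        ext x
        constructor
        · rintro ⟨h, rfl⟩
          show h • u ∈ ({u, u2, u3} : Set W)
          rcases hall (h • u) with e | e | e | e
          · exact absurd (MulAction.injective h (e.trans (hfix1 h).symm)) hu
          · exact Or.inl e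
          · exact Or.inr (Or.inl e)
          · exact Or.inr (Or.inr e)
        · rintro (rfl | rfl | rfl)
          · exact MulAction.mem_orbit_self _
          · exact ⟨h1, rfl⟩
          · obtain ⟨h', hh'⟩ := hnf x hu31
            rcases hall (h' • x) with e | e | e | e
            · exact absurd (MulAction.injective h' (e.trans (hfix1 h').symm)) hu31
            · exact MulAction.mem_orbit_symm.mp ⟨h', e⟩
            · exact ⟨h'⁻¹ * h1, by show (h'⁻¹ * h1) • u = x; rw [mul_smul, inv_smul_eq_iff]; exact e.symm⟩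
            · exact absurd e hh'
      have h3' : Nat.card (MulAction.orbit H u) = 3 := by
        rw [horb, Nat.card_coe_set_eq, Set.ncard_eq_three]
        exact ⟨u, u2, u3, Ne.symm hh1, hu3u.symm, hu32.symm, rfl⟩
      rw [← h3', Nat.card_congr (MulAction.orbitEquivQuotientStabilizer H u)]
      exact Subgroup.index_dvd_card _
    rcases h3 with h3 | h3
    · exact Nat.prime_three.not_dvd_one (hH3.gcd_eq_one ▸ Nat.dvd_gcd h3 dvd_rfl)
    · exact h3
  · -- a fixed hyperbolic or anisotropic four-space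
    have hW'4 : Nat.card W' = 4 := by omega
    rw [hW'4] at hmod
    exact hr3 ((Nat.prime_dvd_prime_iff_eq hr Nat.prime_three).mp hmod)

end CfsgLib.OddPair.Frame
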