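import Cfsg.Agent.EvenPair.Exceptional.Assemble
import Cfsg.Agent.EvenPair.Exceptional.Cases
import Cfsg.Agent.EvenPair.Exceptional.Vacuous
import Cfsg.Agent.EvenPair.Line

/-!
The two kinds of pivot planes over a field with three or five elements.
-/

set_option autoImplicit false
set_option linter.style.haveILetI false

open scoped commutatorElement

namespace CfsgLib.OddPair.Frame

open CfsgLib.EvenPair (opPlus opMinus diagOp)

variable {A V : Type} [Group A] [Finite A] [AddCommGroup V] [Finite V] [Nontrivial V] [DistribMulAction A V]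
variable (φ : Frame A V) [FaithfulSMul A V] [Group.IsSolvable A] {q : ℕ} [Fact q.Prime]

/-- A plane of coordinates spanned by two vectors. -/
theorem exists_plane (hK : Nat.card φ.K = q) (u u' : V) :
    ∃ (ι : ZMod q × ZMod q →+ V) (c : ZMod q →+* φ.K), Function.Bijective c ∧
      ∀ p, ι p = c p.1 • u + c p.2 • u' := by
  haveI : CharP φ.K q := (CharP.charP_iff_prime_eq_zero (Fact.out : q.Prime)).mpr
    ((φ.natCast_eq_zero_iff_dvd hK q).mpr dvd_rfl)
  haveI : Fintype φ.K := Fintype.ofFinite _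
  let c := ZMod.castHom (dvd_refl q) φ.K
  refine ⟨AddMonoidHom.mk' (fun p => c p.1 • u + c p.2 • u') fun a b => ?_, c, ?_, fun p => rfl⟩
  · simp only [Prod.fst_add, Prod.snd_add, map_add, add_smul]; abel
  · exact ⟨c.injective, fun r => by
      obtain ⟨n, rfl⟩ := φ.exists_natCast hK r
      exact ⟨n, map_natCast c n⟩⟩

/-- Elements of the centraliser preserve blocks. -/
theorem InBlock.smul_cent {φ : Frame A V} {Zc Zp : Subgroup A}
    (hZp : Zp = φ.F ⊓ Subgroup.centralizer (Zc : Set A)) {v y : V} (hy : φ.InBlock Zc v y) {g : A} (hg : g ∈ Zp) :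
    φ.InBlock Zc v (g • y) := fun z hz r hr => by
  rw [← mul_smul, Subgroup.mem_centralizer_iff.mp (hZp.le hg).2 z hz, mul_smul, hy z hz r hr,
    φ.L_smul (φ.F_le (hZp.le hg).1)]

/-- Scaled elements with central squares. -/
theorem scaled_sq {g : A} (hg : g ∈ φ.F) (hg2 : g ^ 2 ∈ φ.C) {l ε : φ.K}
    (he : φ.scal (g ^ 2) hg2 * l ^ 2 = ε) (x : V) : l • (g • (l • (g • x))) = ε • x := by
  rw [φ.L_smul (φ.F_le hg), ← mul_smul g g x, ← sq g, ← φ.scal_smul _ hg2, smul_smul, smul_smul, ← he]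
  congr 1; ring

/-- Scaled anticommuting elements. -/
theorem scaled_anti {j s : A} (hj : j ∈ φ.F) (hs : s ∈ φ.F)
    (hsj : φ.scal ⁅s, j⁆ (φ.comm_mem s hs j hj) = -1) (l m : φ.K) (x : V) :
    m • (s • (l • (j • x))) = -(l • (j • (m • (s • x)))) := by
  rw [φ.L_smul (φ.F_le hs), φ.L_smul (φ.F_le hj), φ.commute_smul hs hj hsj, smul_neg, smul_neg, smul_comm m l]

/-- A hyperbolic pivot pair. -/
theorem pair_plus (hK : Nat.card φ.K = q) (hq : q = 3 ∨ q = 5) (hcop : (Nat.card A).Coprime q)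
    (hsq : ∀ f ∈ φ.F, f ^ 2 ∈ φ.C) (Zc Zp : Subgroup A) (v0 : V) (j s : A) (l m : φ.K)
    (hCZ : φ.C ≤ Zc) (hZcp : Zc ≤ Zp) (hZp : Zp = φ.F ⊓ Subgroup.centralizer (Zc : Set A))
    (hv0 : v0 ≠ 0) (heig : ∀ z ∈ Zc, ∃ r : φ.K, z • v0 = r • v0)
    (hj : j ∈ φ.F) (hs : s ∈ φ.F) (hjZ : j ∈ Zp) (hsZ : s ∈ Zp) (hl : l ≠ 0) (hm : m ≠ 0)
    (hle : φ.scal (j ^ 2) (hsq j hj) * l ^ 2 = 1) (hme : φ.scal (s ^ 2) (hsq s hs) * m ^ 2 = 1)
    (hsj : φ.scal ⁅s, j⁆ (φ.comm_mem s hs j hj) = -1) (h2 : (2 : φ.K) ≠ 0)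
    (hdec : ∀ π ∈ Zp, ∃ z ∈ Zc, π = z ∨ π = z * j ∨ π = z * s ∨ π = z * (j * s)) :
    ∃ v w : V, ∀ g : A, g • v = v → g • w = w → g = 1 := by
  classical
  have hneg : (-1 : φ.K) ≠ 1 := fun e => h2 (by linear_combination -e)
  have hZL : Zc ≤ φ.L := (hZcp.trans (hZp.le.trans inf_le_left)).trans φ.F_le
  obtain ⟨J, hJdef⟩ : ∃ J : V → V, ∀ x, J x = l • (j • x) := ⟨_, fun x => rfl⟩
  obtain ⟨S, hSdef⟩ : ∃ S : V → V, ∀ x, S x = m • (s • x) := ⟨_, fun x => rfl⟩
  have hJJ : ∀ x, J (J x) = x := fun x => by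
    rw [hJdef, hJdef, φ.scaled_sq hj (hsq j hj) hle, one_smul]
  have hSS : ∀ x, S (S x) = x := fun x => by
    rw [hSdef, hSdef, φ.scaled_sq hs (hsq s hs) hme, one_smul]
  have hSJ : ∀ x, S (J x) = -(J (S x)) := fun x => by
    rw [hSdef, hJdef, hJdef, hSdef]; exact φ.scaled_anti hj hs hsj l m x
  have hJa : ∀ x y, J (x + y) = J x + J y := fun x y => by rw [hJdef, hJdef, hJdef, smul_add, smul_add]
  have hSa : ∀ x y, S (x + y) = S x + S y := fun x y => by rw [hSdef, hSdef, hSdef, smul_add, smul_add]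
  have hJc : ∀ (c : φ.K) x, J (c • x) = c • J x := fun c x => by
    rw [hJdef, hJdef, φ.L_smul (φ.F_le hj), smul_comm]
  have hSc : ∀ (c : φ.K) x, S (c • x) = c • S x := fun c x => by
    rw [hSdef, hSdef, φ.L_smul (φ.F_le hs), smul_comm]
  have hS0 : S 0 = 0 := by rw [hSdef, smul_zero, smul_zero]
  have hJn : ∀ x, J (-x) = -J x := fun x => by rw [hJdef, hJdef, smul_neg, smul_neg]
  have hBJ : ∀ y, φ.InBlock Zc v0 y → φ.InBlock Zc v0 (J y) := fun y hy => by
    rw [hJdef]; exact (hy.smul_cent hZp hjZ).smul hZL l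
  have hBS : ∀ y, φ.InBlock Zc v0 y → φ.InBlock Zc v0 (S y) := fun y hy => by
    rw [hSdef]; exact (hy.smul_cent hZp hsZ).smul hZL m
  obtain ⟨u, hu0, huB, huJ⟩ : ∃ u, u ≠ 0 ∧ φ.InBlock Zc v0 u ∧ J u = u := by
    by_cases h : v0 + J v0 = 0
    · refine ⟨S v0, fun e => hv0 (by rw [← hSS v0, e, hS0]), hBS _ (φ.inBlock_self _ _), ?_⟩
      have h' : J v0 = -v0 := eq_neg_of_add_eq_zero_right h
      rw [← neg_neg (J (S v0)), ← hSJ, h', hSdef, hSdef, smul_neg, smul_neg, neg_neg]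
    · exact ⟨v0 + J v0, h, (φ.inBlock_self _ _).add (hBJ _ (φ.inBlock_self _ _)), by rw [hJa, hJJ, add_comm]⟩
  have hJSu : J (S u) = -S u := by rw [← neg_neg (J (S u)), ← hSJ, huJ]
  have htwo : ∀ x : V, x + x = 0 → x = 0 := fun x h => by
    rw [← two_smul φ.K] at h; exact (smul_eq_zero.mp h).resolve_left h2
  by_cases hsecond : ∃ u', φ.InBlock Zc v0 u' ∧ J u' = u' ∧ ∀ c : φ.K, u' ≠ c • u
  · obtain ⟨u', hu'B, hu'J, hu'⟩ := hsecond
    have hJSu' : J (S u') = -S u' := by rw [← neg_neg (J (S u')), ← hSJ, hu'J]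
    obtain ⟨ι1, c, hc, hι1⟩ := φ.exists_plane hK u (S u)
    obtain ⟨ι2, c', hc', hι2⟩ := φ.exists_plane hK u' (S u')
    let ι : (ZMod q × ZMod q) × ZMod q × ZMod q →+ V := ι1.coprod ι2
    have hι : ∀ p, ι p = c p.1.1 • u + c p.1.2 • S u + (c' p.2.1 • u' + c' p.2.2 • S u') := fun p => by
      rw [← hι1, ← hι2]; exact AddMonoidHom.coprod_apply ι1 ι2 p
    have hindep : ∀ a b : φ.K, a • u + b • u' = 0 → a = 0 ∧ b = 0 := by
      intro a b h
      by_cases hb : b = 0
      · rw [hb, zero_smul, add_zero] at h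
        exact ⟨(smul_eq_zero.mp h).resolve_right hu0, hb⟩
      · refine absurd ?_ (hu' (-(b⁻¹ * a)))
        rw [neg_smul, ← smul_smul, eq_neg_of_add_eq_zero_left h, smul_neg, neg_neg, smul_smul,
          inv_mul_cancel₀ hb, one_smul]
    have hinj : Function.Injective ι := by
      rw [injective_iff_map_eq_zero]
      rintro ⟨⟨a, b⟩, a', b'⟩ h
      rw [hι] at h
      have hJ := congrArg J h
      simp only [hJa, hJc, huJ, hJSu, hu'J, hJSu', smul_neg] at hJ
      have hJ0 : J 0 = 0 := by rw [hJdef, smul_zero, smul_zero]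
      rw [hJ0] at hJ
      simp only at h hJ
      have e1 : c a • u + c' a' • u' = 0 := htwo _ (by
        calc _ = (c a • u + c b • S u + (c' a' • u' + c' b' • S u')) +
              (c a • u + -(c b • S u) + (c' a' • u' + -(c' b' • S u'))) := by abel
          _ = 0 := by rw [h, hJ, add_zero])
      have e2 : c b • S u + c' b' • S u' = 0 := by
        calc _ = (c a • u + c b • S u + (c' a' • u' + c' b' • S u')) - (c a • u + c' a' • u') := by abel
          _ = 0 := by rw [h, e1, sub_zero]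
      have e3 := congrArg S e2
      rw [hSa, hSc, hSc, hSS, hSS, hS0] at e3
      obtain ⟨ha, ha'⟩ := hindep _ _ e1
      obtain ⟨hb, hb'⟩ := hindep _ _ e3
      rw [← map_zero c] at ha hb
      rw [← map_zero c'] at ha' hb'
      rw [hc.1 ha, hc.1 hb, hc'.1 ha', hc'.1 hb']
      rfl
    let MJ0 : ZMod q × ZMod q → ZMod q × ZMod q := fun r => (r.1, -r.2)
    let MS0 : ZMod q × ZMod q → ZMod q × ZMod q := fun r => (r.2, r.1)
    obtain ⟨κ, -⟩ := φ.coords_pair hK hsq hneg Zc Zp v0 j s l m 1 hCZ hZcp hZp hv0 heig hj hs hjZ hsZ hl hm hsj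
      one_ne_zero hdec (diagOp (opPlus q)) (fun x => (MJ0 x.1, MJ0 x.2)) (fun x => (MS0 x.1, MS0 x.2))
      (fun a b x => by cases a <;> cases b <;> rfl) ι hinj
      (fun x => by
        rw [hι]
        exact ((huB.smul hZL _).add ((hBS _ huB).smul hZL _)).add ((hu'B.smul hZL _).add ((hBS _ hu'B).smul hZL _)))
      (fun x => by
        rw [← hJdef, hι, hι]
        simp only [hJa, hJc, huJ, hJSu, hu'J, hJSu', MJ0, map_neg, neg_smul, smul_neg])
      (fun x => by
        rw [← hSdef, hι, hι]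
        simp only [hSa, hSc, hSS, MS0]
        abel)
    rcases hq with rfl | rfl
    · exact φ.pair_of_cert hK hsq κ EvenPair.isCert_free3
    · exact φ.pair_of_cert hK hsq κ EvenPair.isCert_free5
  push Not at hsecond
  have hone : ∀ y, φ.InBlock Zc v0 y → J y = y → ∃ c : φ.K, y = c • u := hsecond
  rcases hq with rfl | rfl
  · -- one line over three elements
    let M : Subgroup A := Zp ⊓ Subgroup.centralizer ({j} : Set A)
    have hMF : M ≤ φ.F := inf_le_left.trans (hZp.le.trans inf_le_left)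
    have hcent : ∀ z ∈ Zc, ∀ π ∈ Zp, z * π = π * z := fun z hz π hπ =>
      Subgroup.mem_centralizer_iff.mp (hZp.le hπ).2 z hz
    have hZM : Zc ≤ M := fun z hz =>
      ⟨hZcp hz, Subgroup.mem_centralizer_singleton_iff.mpr (hcent z hz j hjZ)⟩
    have hMdec : ∀ μ ∈ M, ∃ z ∈ Zc, μ = z ∨ μ = z * j := by
      intro μ hμ
      obtain ⟨z, hz, h | h | h | h⟩ := hdec μ hμ.1
      · exact ⟨z, hz, Or.inl h⟩
      · exact ⟨z, hz, Or.inr h⟩
      all_goals
        exfalso
        have key : ∀ e : A, μ = z * e → e * j = j * e := fun e he => by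
          have h1 : μ * j = j * μ := Subgroup.mem_centralizer_singleton_iff.mp hμ.2
          rw [he, mul_assoc, ← mul_assoc j z, ← hcent z hz j hjZ, mul_assoc, mul_right_inj] at h1
          exact h1
        have h1 := key _ h
      · exact hneg (hsj.symm.trans (φ.scal_of_commute hs hj h1))
      · rw [mul_assoc, mul_right_inj] at h1
        exact hneg (hsj.symm.trans (φ.scal_of_commute hs hj h1))
    have hju : j • u = l⁻¹ • u := by
      conv_rhs => rw [← huJ, hJdef, smul_smul, inv_mul_cancel₀ hl, one_smul]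
    refine φ.exists_pair_line hK hcop M u (hCZ.trans hZM) hMF ?_ hu0 ?_ ?_
    · refine le_antisymm (fun f hf => ?_) (le_inf hMF fun x hx => Subgroup.mem_centralizer_iff.mpr fun y hy => ?_)
      · refine ⟨hZp.ge ⟨hf.1, Subgroup.mem_centralizer_iff.mpr fun z hz =>
          Subgroup.mem_centralizer_iff.mp hf.2 z (hZM hz)⟩, Subgroup.mem_centralizer_singleton_iff.mpr ?_⟩
        exact (Subgroup.mem_centralizer_iff.mp hf.2 j ⟨hjZ, Subgroup.mem_centralizer_singleton_iff.mpr rfl⟩).symm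
      · obtain ⟨z, hz, h | h⟩ := hMdec y hy <;> rw [h]
        · exact hcent z hz x hx.1
        · rw [mul_assoc, ← Subgroup.mem_centralizer_singleton_iff.mp hx.2, ← mul_assoc, hcent z hz x hx.1, mul_assoc]
    · intro μ hμ
      obtain ⟨z, hz, h | h⟩ := hMdec μ hμ
      · obtain ⟨r, hr⟩ := heig z hz
        exact ⟨r, by rw [h, huB z hz r hr]⟩
      · obtain ⟨r, hr⟩ := heig z hz
        exact ⟨l⁻¹ * r, by rw [h, mul_smul, hju, φ.L_smul (hZL hz), huB z hz r hr, smul_smul]⟩
    · intro y hy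
      refine hone y (fun z hz r hr => hy z (hZM hz) r (huB z hz r hr)) ?_
      rw [hJdef, hy j ⟨hjZ, Subgroup.mem_centralizer_singleton_iff.mpr rfl⟩ _ hju, smul_smul,
        mul_inv_cancel₀ hl, one_smul]
  · -- one line over five elements
    obtain ⟨ι, c, hc, hι⟩ := φ.exists_plane hK u (S u)
    have hinj : Function.Injective ι := by
      rw [injective_iff_map_eq_zero]
      rintro ⟨a, b⟩ h
      rw [hι] at h
      have hJ := congrArg J h
      rw [hJa, hJc, hJc, huJ, hJSu, show J 0 = 0 by rw [hJdef, smul_zero, smul_zero], smul_neg] at hJ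
      have e1 : c a • u = 0 := htwo _ (by
        calc _ = (c a • u + c b • S u) + (c a • u + -(c b • S u)) := by abel
          _ = 0 := by rw [h, hJ, add_zero])
      rw [e1, zero_add] at h
      have e2 := congrArg S h
      rw [hSc, hSS, hS0] at e2
      have ha := (smul_eq_zero.mp e1).resolve_right hu0
      have hb := (smul_eq_zero.mp e2).resolve_right hu0
      rw [← map_zero c] at ha hb
      exact Prod.ext (hc.1 ha) (hc.1 hb)
    obtain ⟨κ, hκ⟩ := φ.coords_pair hK hsq hneg Zc Zp v0 j s l m 1 hCZ hZcp hZp hv0 heig hj hs hjZ hsZ hl hm hsj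
      one_ne_zero hdec (opPlus 5) (fun r => (r.1, -r.2)) (fun r => (r.2, r.1))
      (fun a b x => rfl) ι hinj
      (fun x => by rw [hι]; exact (huB.smul hZL _).add ((hBS _ huB).smul hZL _))
      (fun x => by
        rw [← hJdef, hι, hι]
        simp only [hJa, hJc, huJ, hJSu, map_neg, neg_smul, smul_neg])
      (fun x => by
        rw [← hSdef, hι, hι]
        simp only [hSa, hSc, hSS]
        abel)
    by_cases hsmall : Zc ≤ φ.C
    · refine ⟨u, S u, fun g hgu hgS => eq_of_smul_eq_smul (α := V) fun y => ?_⟩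
      rw [one_smul]
      have hgL := φ.mem_L_of_prime hK g
      have hall : ∀ y, φ.InBlock Zc v0 y := fun y z hz r hr => by
        rw [← φ.scal_smul z (hsmall hz) y, φ.smul_left_cancel' hv0 ((φ.scal_smul z (hsmall hz) v0).trans hr)]
      obtain ⟨a, ha⟩ := hone (y + J y) (hall _) (by rw [hJa, hJJ, add_comm])
      obtain ⟨b, hb⟩ := hone (S (y + -J y)) (hall _) (by
        rw [← neg_neg (J (S _)), ← hSJ, hJa, hJn, hJJ, hSdef, hSdef, ← smul_neg, ← smul_neg, neg_add,
          neg_neg, add_comm])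
      have hb' : y + -J y = b • S u := by rw [← hSS (y + -J y), hb, hSc]
      have hy : (2 : φ.K) • y = a • u + b • S u := by rw [← ha, ← hb', two_smul]; abel
      refine smul_right_injective V h2 ?_
      show (2 : φ.K) • g • y = (2 : φ.K) • y
      rw [← φ.L_smul hgL, hy, smul_add, φ.L_smul hgL, φ.L_smul hgL, hgu, hgS]
    · obtain ⟨κ', -⟩ := φ.coords_double hK hsq h2 κ (fun h => hsmall (hκ ▸ h))
      exact φ.pair_of_cert hK hsq κ' EvenPair.isCert_plus5

end CfsgLib.OddPair.Frame
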