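import Cfsg.Agent.EvenPair.Generic

/-!
Frames over a field with three or five elements: colours without normalised representatives.
-/

set_option autoImplicit false
set_option linter.style.haveILetI false

open scoped commutatorElement

namespace CfsgLib.OddPair.Frame

variable {A V : Type} [Group A] [Finite A] [AddCommGroup V] [Finite V] [Nontrivial V] [DistribMulAction A V]
variable (φ : Frame A V) {q : ℕ} [Fact q.Prime]

theorem exists_natCast (hK : Nat.card φ.K = q) (r : φ.K) : ∃ n : ℕ, (n : φ.K) = r := by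
  have h : (1 : φ.K) ≠ 0 := one_ne_zero
  have h' := mem_multiples_of_prime_card hK h (g' := r)
  obtain ⟨n, hn⟩ := AddSubmonoid.mem_multiples_iff _ _ |>.mp h'
  exact ⟨n, by rw [← hn, nsmul_one]⟩

theorem prime_nsmul (hK : Nat.card φ.K = q) (x : V) : q • x = 0 := by
  have h : (q : φ.K) = 0 := by rw [← hK, ← nsmul_one, card_nsmul_eq_zero']
  rw [← Nat.cast_smul_eq_nsmul φ.K, h, zero_smul]

theorem natCast_eq_zero_iff_dvd (hK : Nat.card φ.K = q) (n : ℕ) : (n : φ.K) = 0 ↔ q ∣ n := by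
  constructor
  · intro h
    by_contra hn
    have hq : (q : φ.K) = 0 := by rw [← hK, ← nsmul_one, card_nsmul_eq_zero']
    have e := Nat.gcd_eq_gcd_ab q n
    rw [(Nat.coprime_iff_gcd_eq_one.mp ((Fact.out : q.Prime).coprime_iff_not_dvd.mpr hn))] at e
    have := congrArg (fun z : ℤ => (z : φ.K)) e
    push_cast at this
    rw [hq, h] at this
    simp at this
  · rintro ⟨k, rfl⟩
    have hq : (q : φ.K) = 0 := by rw [← hK, ← nsmul_one, card_nsmul_eq_zero']
    rw [Nat.cast_mul, hq, zero_mul]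

variable [FaithfulSMul A V]

theorem mem_L_of_prime (hK : Nat.card φ.K = q) (g : A) : g ∈ φ.L := by
  refine φ.L_eq_of_conjK fun r => ?_
  obtain ⟨n, rfl⟩ := φ.exists_natCast hK r
  exact map_natCast (φ.conjKHom g) n

/-- Over three or five elements the class-two part has exponent two modulo `C`. -/
theorem sq_mem_C_small [Group.IsSolvable A] (hK : Nat.card φ.K = 3 ∨ Nat.card φ.K = 5) {f : A} (hf : f ∈ φ.F) :
    f ^ 2 ∈ φ.C := by
  by_contra h
  obtain ⟨r, i, hr, hxF, hxC, hxr⟩ := φ.exists_prime_power_notMem le_rfl le_rfl (φ.F.pow_mem hf 2) h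
  have hxF' : (f ^ 2) ^ i ∈ φ.F := hxF
  obtain ⟨u, hu, hut⟩ : ∃ u ∈ φ.F, ⁅u, (f ^ 2) ^ i⁆ ≠ 1 := by
    by_contra hh
    push Not at hh
    exact hxC (φ.center_eq.le ⟨hxF', Subgroup.mem_centralizer_iff.mpr fun g hg =>
      commutatorElement_eq_one_iff_mul_comm.mp (hh g hg)⟩)
  have hd : r ∣ Nat.card φ.K - 1 := φ.succ_le_card_K (φ.comm_mem u hu _ hxF') hut hr
    (φ.scal_eq_one (pow_mem (φ.comm_mem u hu _ hxF') r) ((φ.scal_pow _ _ r).trans (φ.scal_comm_pow hxF' hu hxr)))
  have h2 : r = 2 := by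
    rcases hK with e | e <;> rw [e] at hd
    · exact (Nat.prime_dvd_prime_iff_eq hr Nat.prime_two).mp hd
    · have : r ∣ 2 ^ 2 := hd
      exact (Nat.prime_dvd_prime_iff_eq hr Nat.prime_two).mp (hr.dvd_of_dvd_pow this)
  subst h2
  refine hxC ?_
  rw [← pow_mul] at hxr hxC ⊢
  rw [← pow_mul] at hxr
  have h4 : ((f ^ i) ^ 2) ^ 2 ∈ φ.C := by
    rw [← pow_mul, ← pow_mul, show i * (2 * 2) = 2 * (i * 2) by ring]; exact hxr
  have := φ.pow_prime_mem (φ.F.pow_mem hf i) h4
  rwa [← pow_mul, mul_comm] at this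

/-- The block criterion with three colours given by vectors. -/
theorem pair_of_colours [Group.IsSolvable A] (hK : Nat.card φ.K = q) (hsq : ∀ f ∈ φ.F, f ^ 2 ∈ φ.C)
    (Zc Zp : Subgroup A) (v w0 : V) (k : Fin 3 → V)
    (hCZ : φ.C ≤ Zc) (hZcp : Zc ≤ Zp) (hZp : Zp = φ.F ⊓ Subgroup.centralizer (Zc : Set A))
    (hv : v ≠ 0) (heig : ∀ z ∈ Zc, ∃ r : φ.K, z • v = r • v)
    (hne : ∀ n ∈ Zp, ∀ r : φ.K, n • v = r • v → n ∈ Zc)
    (hw0 : φ.InBlock Zc v w0)
    (hfix : ∀ g : A, g • v = v → g • w0 = w0 → ∀ π ∈ Zp, g • (π • v) = π • v)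
    (hkW : ∀ i, φ.InBlock Zc v (k i)) (hk0 : ∀ i, k i ≠ 0)
    (hkfix : ∀ g : A, g • v = v → g • w0 = w0 → ∀ i, g • k i = k i)
    (hsep : Zp.relIndex φ.F ≤ 2 ∨ ∀ π ∈ Zp, ∀ i j, i ≠ j → π • k i ≠ k j)
    (hnon : ∀ π ∈ Zp, ∀ i, i ≠ 2 → π • k i = k i → π ∈ Zc) :
    ∃ v w : V, ∀ g : A, g • v = v → g • w = w → g = 1 := by
  classical
  have hZpF : Zp ≤ φ.F := hZp.le.trans inf_le_left
  haveI := φ.pivot_normal Zp (hCZ.trans hZcp) hZpF
  let D := φ.F ⧸ Zp.subgroupOf φ.F
  haveI hDc : IsMulCommutative D := ⟨⟨fun a b => by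
    induction a using QuotientGroup.induction_on with
    | H s =>
      induction b using QuotientGroup.induction_on with
      | H t =>
        rw [← QuotientGroup.mk_mul, ← QuotientGroup.mk_mul, QuotientGroup.eq, Subgroup.mem_subgroupOf]
        have : ((((s * t)⁻¹ * (t * s) : φ.F)) : A) = ⁅(t : A)⁻¹, (s : A)⁻¹⁆ := by
          simp only [Subgroup.coe_mul, InvMemClass.coe_inv, commutatorElement_def]; group
        rw [this]
        exact hZcp (hCZ (φ.comm_mem _ (inv_mem t.2) _ (inv_mem s.2)))⟩⟩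
  letI : CommGroup D := { (inferInstance : Group D) with mul_comm := fun a b => hDc.is_comm.comm a b }
  have hrep : ∀ a : D, (a.out : D) = a := fun a => QuotientGroup.out_eq' a
  have hsq' : ∀ x : Additive D, 2 • x = 0 := by
    intro x
    obtain ⟨f, hf⟩ := QuotientGroup.mk_surjective (Additive.toMul x : D)
    refine Additive.toMul.injective ?_
    show (Additive.toMul x) ^ 2 = 1
    rw [← hf, ← QuotientGroup.mk_pow, QuotientGroup.eq_one_iff, Subgroup.mem_subgroupOf, SubmonoidClass.coe_pow]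
    exact hZcp (hCZ (hsq _ f.2))
  have hsf : ∀ x : Additive D, Squarefree (addOrderOf x) := fun x =>
    Nat.prime_two.squarefree.squarefree_of_dvd (addOrderOf_dvd_of_nsmul_eq_zero (hsq' x))
  obtain ⟨S', col, hS0, -, -, hSspan, hSrig, hSdet⟩ := EvenPair.exists_scheme hsf
  let S : Finset D := S'.map ⟨Additive.toMul, Additive.toMul.injective⟩
  have hmemS : ∀ a : D, a ∈ S ↔ Additive.ofMul a ∈ S' := by
    intro a
    simp only [S, Finset.mem_map]
    exact ⟨fun ⟨x, hx, e⟩ => e ▸ hx, fun h => ⟨_, h, rfl⟩⟩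
  let y : D → V := fun a => k (col (Additive.ofMul a))
  refine φ.block_pair Zc Zp v w0 hCZ hZcp hZp hv heig hne hw0 (fun g _ _ => φ.mem_L_of_prime hK g) hfix S ?_
    Quotient.out hrep y (fun a _ => hk0 _) (fun a _ => hkW _) (fun g h1 h2 a _ => hkfix g h1 h2 _) ?_ ?_ ?_
  · intro h
    exact hS0 ((hmemS 1).mp h)
  · intro g hgv hgw _ T hTS hTy hTc
    rcases hsep with hsmall | hsep
    · -- at most two cosets
      have hc : Nat.card D ≤ 2 := hsmall
      refine MulEquiv.ext fun a => ?_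
      show T a = a
      haveI := Fintype.ofFinite D
      rw [Nat.card_eq_fintype_card] at hc
      by_cases ha : a = 1
      · rw [ha, map_one]
      by_contra hne'
      have h3 : 2 < Fintype.card D := Fintype.two_lt_card_iff.mpr
        ⟨1, a, T a, fun e => ha e.symm, fun e => ha (T.injective (e.symm.trans (map_one T).symm)), fun e => hne' e.symm⟩
      omega
    have hcol : ∀ a ∈ S, col (Additive.ofMul (T a)) = col (Additive.ofMul a) := by
      intro a ha
      have hb := (hTS a).mpr ha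
      have hπ : ((T a).out : A)⁻¹ * (g * (a.out : A) * g⁻¹) ∈ Zp := by
        have h := (hrep (T a)).trans (hTc a).symm
        rw [QuotientGroup.eq, Subgroup.mem_subgroupOf] at h
        exact h
      have hgy : g • y a = y a := hkfix g hgv hgw _
      have hπy : (((T a).out : A)⁻¹ * (g * (a.out : A) * g⁻¹)) • y a = y (T a) := by
        rw [mul_smul, mul_smul, mul_smul, inv_smul_eq_iff.mpr hgy.symm, hTy a ha, inv_smul_smul]
      by_contra hne'
      exact hsep _ hπ _ _ (Ne.symm hne') hπy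
    have h := hSrig (MulEquiv.toAdditive T) (fun x => by
        have := hTS (Additive.toMul x)
        rwa [hmemS, hmemS] at this)
      (fun x hx => hcol (Additive.toMul x) ((hmemS _).mpr hx))
    exact MulEquiv.ext fun a => congrArg Additive.toMul (DFunLike.congr_fun h (Additive.ofMul a))
  · refine top_unique fun a _ => ?_
    have hx : Additive.ofMul a ∈ AddSubgroup.closure {x | x ∈ S' ∧ col x ≠ 2} := hSspan ▸ AddSubgroup.mem_top _
    have hall : ∀ x, x ∈ AddSubgroup.closure {x | x ∈ S' ∧ col x ≠ 2} →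
        Additive.toMul x ∈ Subgroup.closure {a | a ∈ S ∧ ∀ π ∈ Zp, π • y a = y a → π ∈ Zc} := by
      intro x hx
      induction hx using AddSubgroup.closure_induction with
      | mem z hz => exact Subgroup.subset_closure ⟨(hmemS _).mpr hz.1, fun π hπ h => hnon π hπ _ hz.2 h⟩
      | zero => exact one_mem _
      | add u v _ _ hu hv => exact mul_mem hu hv
      | neg u _ hu => exact inv_mem hu
    exact hall _ hx
  · intro ψ hψ1 hψS hψ0 hq a b
    exact hSdet φ.K (fun x => ψ (Additive.toMul x)) hψ1 (fun x hx => hψS _ ((hmemS _).mpr hx)) (fun x => hψ0 _)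
      (fun x z w => hq _ _ _) (Additive.ofMul a) (Additive.ofMul b)

end CfsgLib.OddPair.Frame
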